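import Groth.Agent.Lib.QSect21.Finite
import Groth.Agent.Lib.Olivier.Main
import Mathlib

/-!
# The Galois action on the residue field of a henselian discretely valued field
-/

set_option autoImplicit false
set_option linter.style.haveILetI false

universe u

open IsLocalRing IntermediateField

namespace GrothLib.InertiaSplitlead

variable {K L : Type u} [Field K] [Field L] [Algebra K L]

theorem mem_of_isIntegral (A : ValuationSubring K) (B : ValuationSubring L)
    (hB : ∀ x : K, algebraMap K L x ∈ B ↔ x ∈ A) (z : L) (hz : IsIntegral A z) : z ∈ B := by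
  let ψ : A →+* B := (algebraMap K L).restrict A B fun a ha => (hB a).2 ha
  letI : Algebra A B := ψ.toAlgebra
  haveI : IsScalarTower A B L := IsScalarTower.of_algebraMap_eq fun _ => rfl
  obtain ⟨b, rfl⟩ := IsIntegrallyClosed.isIntegral_iff.1 (hz.tower_top (A := B))
  exact b.2

/-- A valuation subring over a henselian discrete valuation ring consists of integral elements. -/
theorem isIntegral_of_mem (A : ValuationSubring K) [IsDiscreteValuationRing A] [HenselianLocalRing A]
    [Algebra.IsSeparable K L] (B : ValuationSubring L)
    (hB : ∀ x : K, algebraMap K L x ∈ B ↔ x ∈ A) (x : L) (hx : x ∈ B) : IsIntegral A x := by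
  by_cases hx0 : x = 0
  · rw [hx0]; exact isIntegral_zero
  let E : IntermediateField K L := K⟮x⟯
  haveI : FiniteDimensional K E := adjoin.finiteDimensional (Algebra.IsSeparable.isSeparable K x).isIntegral
  haveI : Algebra.IsSeparable K E := Algebra.isSeparable_tower_bot_of_isSeparable K E L
  haveI : Module.Finite A (integralClosure A E) := IsIntegralClosure.finite A K E (integralClosure A E)
  haveI : IsLocalRing (integralClosure A E) := GrothLib.QSect21.isLocalRing_of_finite_domain A _
  haveI : IsDedekindDomain (integralClosure A E) := integralClosure.isDedekindDomain A K E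
  haveI : IsFractionRing (integralClosure A E) E :=
    IsIntegralClosure.isFractionRing_of_finite_extension A K E (integralClosure A E)
  haveI : IsPrincipalIdealRing (integralClosure A E) :=
    IsPrincipalIdealRing.of_finite_maximals <| by
      refine Set.Finite.subset (Set.finite_singleton (maximalIdeal (integralClosure A E))) fun m hm => ?_
      exact eq_maximalIdeal hm
  let xE : E := ⟨x, mem_adjoin_simple_self K x⟩
  rcases (ValuationRing.isInteger_or_isInteger (integralClosure A E) xE) with ⟨c, hc⟩ | ⟨c, hc⟩
  · have : IsIntegral A xE := hc ▸ c.2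
    exact this.map (IsScalarTower.toAlgHom A E L)
  · have hci : IsIntegral A (x⁻¹) := by
      have h1 : IsIntegral A (xE⁻¹) := hc ▸ c.2
      have := h1.map (IsScalarTower.toAlgHom A E L)
      simpa [xE] using this
    haveI := GrothLib.Olivier.isLocalRing_integralClosure A (K := L)
    let C := integralClosure A L
    by_cases hu : IsUnit (⟨x⁻¹, hci⟩ : C)
    · obtain ⟨w, hw⟩ := hu
      have h1 : x⁻¹ * ((↑w⁻¹ : C) : L) = 1 := by
        have := congrArg Subtype.val w.mul_inv
        rwa [hw] at this
      have h2 : ((↑w⁻¹ : C) : L) = x := by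
        field_simp at h1
        exact h1
      exact h2 ▸ (↑w⁻¹ : C).2
    · exfalso
      have hC : ∀ z : L, IsIntegral A z → z ∈ B := mem_of_isIntegral A B hB
      let φ : C →+* B := (RingHom.id L).restrict C B fun z hz => hC z hz
      haveI : Algebra.IsIntegral A C := ⟨fun c => (isIntegral_algHom_iff C.val Subtype.val_injective).1 c.2⟩
      have hP : ((maximalIdeal B).comap φ).IsMaximal := by
        refine Ideal.isMaximal_of_isIntegral_of_isMaximal_comap (R := A) _ ?_
        have : ((maximalIdeal B).comap φ).comap (algebraMap A C) = maximalIdeal A := by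
          refine le_antisymm (le_maximalIdeal (Ideal.comap_ne_top _ (Ideal.comap_ne_top _ (maximalIdeal.isMaximal _).ne_top))) ?_
          intro a ha hunit
          refine ha ?_
          obtain ⟨v, hv⟩ := hunit
          have h1 : algebraMap K L (a : K) * (((↑v⁻¹ : B)) : L) = 1 := by
            have := congrArg Subtype.val v.mul_inv
            rwa [hv] at this
          have ha0 : (a : K) ≠ 0 := fun h => by simp [h] at h1
          have h2 : ((↑v⁻¹ : B) : L) = algebraMap K L (a : K)⁻¹ := by
            rw [map_inv₀]; exact eq_inv_of_mul_eq_one_right h1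
          exact ⟨⟨a, ⟨(a : K)⁻¹, (hB _).1 (h2 ▸ (↑v⁻¹ : B).2)⟩,
            Subtype.ext (mul_inv_cancel₀ ha0), Subtype.ext (inv_mul_cancel₀ ha0)⟩, rfl⟩
        rw [this]; exact maximalIdeal.isMaximal A
      have hmem : (⟨x⁻¹, hci⟩ : C) ∈ (maximalIdeal B).comap φ := by
        rw [eq_maximalIdeal hP]; exact hu
      refine hmem ⟨⟨⟨x⁻¹, hC _ hci⟩, ⟨x, hx⟩, ?_, ?_⟩, rfl⟩
      all_goals
        refine Subtype.ext ?_
        first
          | exact inv_mul_cancel₀ hx0
          | exact mul_inv_cancel₀ hx0

/-- The valuation subring is stable under the Galois group. -/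
theorem stable (A : ValuationSubring K) [IsDiscreteValuationRing A] [HenselianLocalRing A]
    [Algebra.IsSeparable K L] (B : ValuationSubring L)
    (hB : ∀ x : K, algebraMap K L x ∈ B ↔ x ∈ A) (σ : L ≃ₐ[K] L) (x : L) (hx : x ∈ B) : σ x ∈ B :=
  mem_of_isIntegral A B hB _ ((isIntegral_of_mem A B hB x hx).map (σ.toAlgHom.restrictScalars A))

end GrothLib.InertiaSplitlead
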