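import Groth.Agent.Lib.InertiaSplitlead.Tame

/-!
# Removing a `p`-elementary quotient of inertia by Artin–Schreier theory
-/

set_option autoImplicit false
set_option linter.style.haveILetI false

universe u

open IsLocalRing IntermediateField
open scoped TensorProduct Pointwise

noncomputable section

namespace GrothLib.InertiaSplitlead

variable {K L : Type u} [Field K] [Field L] [Algebra K L] {B : ValuationSubring L}

/-- Artin–Schreier equations are solvable in the residue field. -/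
theorem exists_artinSchreier_root [IsSepClosed L] (p : ℕ) [Fact p.Prime] [CharP (ResidueField B) p]
    (r : ResidueField B) : ∃ x : ResidueField B, x ^ p - x = r := by
  classical
  obtain ⟨r, rfl⟩ := residue_surjective r
  let f : Polynomial L := Polynomial.X ^ p - Polynomial.X - Polynomial.C (r : L)
  have hp1 : 1 < p := (Fact.out : p.Prime).one_lt
  have hdeg : f.natDegree = p := by
    simp only [f, Polynomial.natDegree_sub_C]
    rw [Polynomial.natDegree_sub_eq_left_of_natDegree_lt (by simpa using hp1), Polynomial.natDegree_X_pow]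
  have hf : ¬ IsUnit f := fun h => by
    rw [Polynomial.natDegree_eq_zero_of_isUnit h] at hdeg
    omega
  have hf0 : f ≠ 0 := fun h => by rw [h, Polynomial.natDegree_zero] at hdeg; omega
  obtain ⟨g, hgirr, hgf⟩ := WfDvdMonoid.exists_irreducible_factor hf hf0
  have hgsep : g.Separable := by
    obtain ⟨q, hq⟩ := ExpChar.exists L
    rcases hq with _ | ⟨hq⟩
    · exact hgirr.separable
    · have hqp : q = p := by
        haveI : Fact q.Prime := ⟨hq⟩
        have h0 : (q : ResidueField B) = 0 := by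
          rw [← map_natCast (residue B), show (q : B) = 0 from Subtype.ext (by simp), map_zero]
        exact ((Nat.prime_dvd_prime_iff_eq (Fact.out : p.Prime) hq).1 ((CharP.cast_eq_zero_iff _ p q).1 h0)).symm
      subst hqp
      refine Polynomial.Separable.of_dvd ?_ hgf
      refine ⟨0, -1, ?_⟩
      simp [f, Polynomial.derivative_X_pow]
  obtain ⟨x, hx⟩ := IsSepClosed.exists_root g (fun h => hgirr.not_isUnit (Polynomial.isUnit_iff_degree_eq_zero.2 h)) hgsep
  have hfx : f.IsRoot x := hx.dvd hgf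
  have hfx' : x ^ p - x - (r : L) = 0 := by simpa [f] using hfx
  have hxB : x ∈ B := by
    have hint : IsIntegral B x := ⟨Polynomial.X ^ p - (Polynomial.X + Polynomial.C r),
      Polynomial.monic_X_pow_sub (by
        refine lt_of_le_of_lt (Polynomial.degree_add_le _ _) (max_lt ?_ ?_)
        · rw [Polynomial.degree_X]; exact_mod_cast hp1
        · exact lt_of_le_of_lt Polynomial.degree_C_le (by exact_mod_cast (Fact.out : p.Prime).pos)),
      by
        simp only [Polynomial.eval₂_sub, Polynomial.eval₂_add, Polynomial.eval₂_pow, Polynomial.eval₂_X,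
          Polynomial.eval₂_C]
        rw [← sub_sub]
        exact hfx'⟩
    obtain ⟨b, hb⟩ := IsIntegrallyClosed.isIntegral_iff.1 hint
    exact hb ▸ b.2
  refine ⟨residue B ⟨x, hxB⟩, ?_⟩
  rw [← map_pow, ← map_sub]
  exact congrArg _ (Subtype.ext (sub_eq_zero.1 hfx'))

/-- The fixed points of Frobenius form the prime field. -/
theorem exists_zmod_of_pow_eq {k : Type u} [Field k] (p : ℕ) [Fact p.Prime] [CharP k p] {x : k} (hx : x ^ p = x) :
    ∃ c : ZMod p, ZMod.castHom dvd_rfl k c = x := by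
  classical
  by_contra h
  push Not at h
  let f : Polynomial k := Polynomial.X ^ p - Polynomial.X
  have hf0 : f ≠ 0 := FiniteField.X_pow_card_sub_X_ne_zero k (Fact.out : p.Prime).one_lt
  let S : Finset k := insert x (Finset.univ.image (ZMod.castHom dvd_rfl k : ZMod p → k))
  have hsub : S ⊆ f.roots.toFinset := fun y hy => by
    rw [Multiset.mem_toFinset, Polynomial.mem_roots hf0]
    rcases Finset.mem_insert.1 hy with rfl | hy
    · simp [f, hx]
    · obtain ⟨c, -, rfl⟩ := Finset.mem_image.1 hy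
      simp only [f, Polynomial.IsRoot.def, Polynomial.eval_sub, Polynomial.eval_pow, Polynomial.eval_X]
      rw [← map_pow, ZMod.pow_card, sub_self]
  have h1 : S.card = p + 1 := by
    rw [Finset.card_insert_of_notMem (fun hy => by
      obtain ⟨c, -, hc⟩ := Finset.mem_image.1 hy; exact h c hc),
      Finset.card_image_of_injective _ (ZMod.castHom_injective k), Finset.card_univ, ZMod.card]
  have h2 := (Finset.card_le_card hsub).trans ((Multiset.toFinset_card_le _).trans (Polynomial.card_roots' f))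
  rw [h1, FiniteField.X_pow_card_sub_X_natDegree_eq k (Fact.out : p.Prime).one_lt] at h2
  omega

variable [IsSepClosure K L] (hst : ∀ (σ : L ≃ₐ[K] L) (x : L), x ∈ B → σ x ∈ B)

/-- A closed subgroup with full residual image can be shrunk so that a given quotient of its inertia, a module over
the prime field, disappears. -/
theorem exists_smaller_aux (p : ℕ) [Fact p.Prime] [CharP (ResidueField B) p]
    (H : Subgroup (L ≃ₐ[K] L)) (hH : IsClosed (H : Set (L ≃ₐ[K] L)))
    (hfull : ∀ σ : L ≃ₐ[K] L, ∃ h ∈ H, rho hst h = rho hst σ)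
    {Q : Type u} [Group Q] (φ : H →* Q) (U₀ : Subgroup (L ≃ₐ[K] L)) (hU₀ : IsOpen (U₀ : Set (L ≃ₐ[K] L)))
    (hker : ∀ h : H, (h : L ≃ₐ[K] L) ∈ U₀ → φ h = 1)
    {M : Type u} [AddCommGroup M] [Module (ZMod p) M] (ι : M → Q) (hι : Function.Injective ι)
    (hadd : ∀ a b, ι (a + b) = ι a * ι b)
    (hrange : ∀ x : H, rho hst x.1 = 1 → ∃ m, ι m = φ x)
    (hsurj : ∀ m, ∃ x : H, rho hst x.1 = 1 ∧ φ x = ι m) :
    ∃ H' : Subgroup (L ≃ₐ[K] L), IsClosed (H' : Set (L ≃ₐ[K] L)) ∧ H' ≤ H ∧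
      (∀ σ : L ≃ₐ[K] L, ∃ h ∈ H', rho hst h = rho hst σ) ∧
      ∀ x : H, (x : L ≃ₐ[K] L) ∈ H' → rho hst x.1 = 1 → φ x = 1 := by
  classical
  haveI : IsGalois K L := IsSepClosure.isGalois
  haveI : IsSepClosed L := IsSepClosure.sep_closed K
  have hι0 : ι 0 = 1 := by
    have := hadd 0 0
    rw [add_zero] at this
    exact left_eq_mul.1 this
  have hneg : ∀ a, ι (-a) = (ι a)⁻¹ := fun a => eq_inv_of_mul_eq_one_left (by rw [← hadd, neg_add_cancel, hι0])
  have hconj : ∀ (h : H) (m : M), ∃ m', ι m' = φ h * ι m * (φ h)⁻¹ := fun h m => by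
    obtain ⟨x, hx, hxm⟩ := hsurj m
    obtain ⟨m', hm'⟩ := hrange (h * x * h⁻¹) (by
      rw [Subgroup.coe_mul, Subgroup.coe_mul, InvMemClass.coe_inv, map_mul, map_mul, hx, mul_one, map_inv,
        mul_inv_cancel])
    exact ⟨m', by rw [hm', map_mul, map_mul, map_inv, hxm]⟩
  choose cf hcf using hconj
  letI : Algebra (ZMod p) (ResidueField B) := ZMod.algebra _ p
  let cj : H → (M →ₗ[ZMod p] M) := fun h => AddMonoidHom.toZModLinearMap p
    (AddMonoidHom.mk' (cf h) fun a b => hι (by rw [hcf, hadd, hadd, hcf, hcf]; group))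
  have hcjι : ∀ (h : H) (m : M), ι (cj h m) = φ h * ι m * (φ h)⁻¹ := hcf
  have hcj : ∀ (g h : H) (m : M), cj (g * h) m = cj g (cj h m) := fun g h m =>
    hι (by rw [hcjι, hcjι, hcjι, map_mul]; group)
  have hcj1 : ∀ (h : H) (m : M), (∃ m', ι m' = φ h) → cj h m = m := fun h m ⟨m', hm'⟩ =>
    hι (by rw [hcjι, ← hm', ← hadd, add_comm, hadd, mul_inv_cancel_right])
  let W := ResidueField B ⊗[ZMod p] M
  let act : H → (W →ₗ[ZMod p] W) := fun h =>
    TensorProduct.map (AddMonoidHom.toZModLinearMap p (rho hst h.1).toRingHom.toAddMonoidHom) (cj h)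
  have act_tmul : ∀ (h : H) (r : ResidueField B) (m : M), act h (r ⊗ₜ m) = rho hst h.1 r ⊗ₜ cj h m :=
    fun h r m => rfl
  have act_mul : ∀ (g h : H) (w : W), act (g * h) w = act g (act h w) := fun g h w => by
    induction w using TensorProduct.induction_on with
    | zero => simp
    | tmul r m => rw [act_tmul, act_tmul, act_tmul, hcj, Subgroup.coe_mul, rho_mul_apply]
    | add a b ha hb => simp only [map_add, ha, hb]
  have act_smul : ∀ (h : H) (c : ResidueField B) (w : W), act h (c • w) = rho hst h.1 c • act h w := fun h c w => by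
    induction w using TensorProduct.induction_on with
    | zero => simp
    | tmul r m => rw [TensorProduct.smul_tmul', smul_eq_mul, act_tmul, act_tmul, TensorProduct.smul_tmul',
        smul_eq_mul, map_mul]
    | add a b ha hb => simp only [smul_add, map_add, ha, hb]
  let Fr : W →ₗ[ZMod p] W :=
    TensorProduct.map (AddMonoidHom.toZModLinearMap p (frobenius (ResidueField B) p).toAddMonoidHom) LinearMap.id
  have Fr_tmul : ∀ (r : ResidueField B) (m : M), Fr (r ⊗ₜ m) = (r ^ p) ⊗ₜ m := fun r m => rfl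
  have Fr_act : ∀ (h : H) (w : W), Fr (act h w) = act h (Fr w) := fun h w => by
    induction w using TensorProduct.induction_on with
    | zero => simp
    | tmul r m => rw [act_tmul, Fr_tmul, Fr_tmul, act_tmul, map_pow]
    | add a b ha hb => simp only [map_add, ha, hb]
  have Fr_surj : ∀ w : W, ∃ b : W, Fr b - b = w := fun w => by
    induction w using TensorProduct.induction_on with
    | zero => exact ⟨0, by simp⟩
    | tmul r m =>
      obtain ⟨x, hx⟩ := exists_artinSchreier_root (B := B) p r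
      exact ⟨x ⊗ₜ m, by rw [Fr_tmul, ← TensorProduct.sub_tmul, hx]⟩
    | add a b ha hb =>
      obtain ⟨x, hx⟩ := ha
      obtain ⟨y, hy⟩ := hb
      exact ⟨x + y, by rw [map_add, add_sub_add_comm, hx, hy]⟩
  let bM := Module.Free.chooseBasis (ZMod p) M
  let Φ := TensorProduct.equivFinsuppOfBasisRight (M := ResidueField B) bM
  have Φ_Fr : ∀ (w : W) i, Φ (Fr w) i = (Φ w i) ^ p := fun w i => by
    induction w using TensorProduct.induction_on with
    | zero => simp [(Fact.out : p.Prime).ne_zero]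
    | tmul r m =>
      rw [Fr_tmul, TensorProduct.equivFinsuppOfBasisRight_apply_tmul_apply,
        TensorProduct.equivFinsuppOfBasisRight_apply_tmul_apply, Algebra.smul_def, Algebra.smul_def, mul_pow,
        ← map_pow, ZMod.pow_card]
    | add a b ha hb => simp only [map_add, Finsupp.add_apply, ha, hb, add_pow_char]
  have one_inj : Function.Injective (fun m : M => ((1 : ResidueField B) ⊗ₜ[ZMod p] m)) := fun a b hab => by
    refine bM.repr.injective (Finsupp.ext fun i => ?_)
    have := congrArg (fun w => Φ w i) hab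
    simp only [Φ, TensorProduct.equivFinsuppOfBasisRight_apply_tmul_apply, Algebra.smul_def, mul_one] at this
    exact (algebraMap (ZMod p) (ResidueField B)).injective this
  have fixed : ∀ w : W, Fr w = w → ∃ m : M, (1 : ResidueField B) ⊗ₜ[ZMod p] m = w := fun w hw => by
    have hc : ∀ i, ∃ c : ZMod p, algebraMap (ZMod p) (ResidueField B) c = Φ w i := fun i =>
      exists_zmod_of_pow_eq p (by rw [← Φ_Fr, hw])
    choose c hc using hc
    refine ⟨bM.repr.symm (Finsupp.onFinset (Φ w).support c fun i hi => ?_), Φ.injective (Finsupp.ext fun i => ?_)⟩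
    · rw [Finsupp.mem_support_iff, ← hc]
      exact fun h => hi ((algebraMap (ZMod p) (ResidueField B)).injective (h.trans (map_zero _).symm))
    · rw [TensorProduct.equivFinsuppOfBasisRight_apply_tmul_apply, LinearEquiv.apply_symm_apply,
        Finsupp.onFinset_apply, Algebra.smul_def, mul_one, hc]
  -- a finite residual level detecting the quotient
  let S : Set (L ≃ₐ[K] L) := {σ | ∃ x ∈ H, rho hst x = 1 ∧ x⁻¹ * σ ∈ U₀}
  have hSopen : IsOpen S := by
    have : S = ⋃ x ∈ {x | x ∈ H ∧ rho hst x = 1}, (fun σ => x⁻¹ * σ) ⁻¹' (U₀ : Set (L ≃ₐ[K] L)) := by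
      ext σ; simp [S, and_assoc]
    rw [this]
    exact isOpen_biUnion fun x _ => hU₀.preimage (continuous_const.mul continuous_id)
  obtain ⟨E, hE⟩ := exists_T_subset hst hH hSopen (fun σ hσ hρ => ⟨σ, hσ, hρ, by rw [inv_mul_cancel]; exact one_mem _⟩)
  let N : Subgroup H := (T hst E.1).subgroupOf H
  haveI : N.Normal := ⟨fun n hn g => conj_mem_T hst E.1 g.1 hn⟩
  have hNdecomp : ∀ n ∈ N, ∃ x : H, rho hst x.1 = 1 ∧ φ (x⁻¹ * n) = 1 ∧ x⁻¹ * n ∈ N := fun n hn => by
    obtain ⟨x, hx, hρ, hU⟩ := hE n.1 n.2 hn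
    refine ⟨⟨x, hx⟩, hρ, hker _ hU, N.mul_mem (N.inv_mem ?_) hn⟩
    exact mem_T_of_rho hst hρ E.1
  have hNV : ∀ n ∈ N, ∃ m, ι m = φ n := fun n hn => by
    obtain ⟨x, hx, h1, -⟩ := hNdecomp n hn
    obtain ⟨m, hm⟩ := hrange x hx
    exact ⟨m, by rw [hm, ← mul_inv_cancel_left x n, map_mul, h1, mul_one]⟩
  haveI : Finite (H ⧸ N) := by
    haveI : Finite ((L ≃ₐ[K] L) ⧸ T hst E.1) := Subgroup.quotient_finite_of_isOpen _ (isOpen_T hst E.1)
    let f : H ⧸ N → (L ≃ₐ[K] L) ⧸ T hst E.1 := fun q => (q.out.1 : (L ≃ₐ[K] L) ⧸ T hst E.1)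
    refine Finite.of_injective f fun a b h => ?_
    have h' : (a.out.1 : L ≃ₐ[K] L)⁻¹ * b.out.1 ∈ T hst E.1 := QuotientGroup.eq.1 h
    rw [← a.out_eq, ← b.out_eq]
    exact QuotientGroup.eq.2 h'
  letI : Fintype (H ⧸ N) := Fintype.ofFinite _
  have hout : ∀ (h : H) (γ : H ⧸ N), ((h : H ⧸ N) * γ).out⁻¹ * (h * γ.out) ∈ N := fun h γ => by
    refine QuotientGroup.eq.1 ?_
    rw [QuotientGroup.out_eq', QuotientGroup.mk_mul, QuotientGroup.out_eq']
  -- an element of trace one
  let S' : Submonoid B := { carrier := {x | (x : L) ∈ E.1}, one_mem' := E.1.one_mem, mul_mem' := fun ha hb => E.1.mul_mem ha hb }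
  let χ : H ⧸ N → (S' →* ResidueField B) := fun γ =>
    ((rho hst γ.out.1).toRingHom.comp (residue B)).toMonoidHom.comp S'.subtype
  have hχ : Function.Injective χ := fun a b h => by
    rw [← a.out_eq, ← b.out_eq]
    refine QuotientGroup.eq.2 fun x hx => ?_
    have h1 : rho hst a.out.1 (residue B x) = rho hst b.out.1 (residue B x) :=
      congrArg (fun f : S' →* ResidueField B => f ⟨x, hx⟩) h
    show rho hst ((a.out.1)⁻¹ * b.out.1) (residue B x) = residue B x
    rw [rho_mul_apply, ← h1, ← rho_mul_apply, inv_mul_cancel, rho_one_apply]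
  obtain ⟨x₁, hx₁⟩ : ∃ x : S', ∑ γ, χ γ x ≠ 0 := by
    by_contra hne
    push Not at hne
    have h1 := Fintype.linearIndependent_iff.1 ((linearIndependent_monoidHom S' (ResidueField B)).comp χ hχ)
      (fun _ => 1) (funext fun x => by simpa [Finset.sum_apply] using hne x) (1 : H ⧸ N)
    exact one_ne_zero h1
  have hN_fix : ∀ n ∈ N, rho hst n.1 (residue B (x₁ : B)) = residue B (x₁ : B) := fun n hn => hn _ x₁.2
  have hperm : ∀ (h : H) (r : ResidueField B), (∀ n ∈ N, rho hst n.1 r = r) → ∀ γ : H ⧸ N,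
      rho hst h.1 (rho hst γ.out.1 r) = rho hst ((h : H ⧸ N) * γ).out.1 r := fun h r hr γ => by
    rw [← rho_mul_apply, ← Subgroup.coe_mul, ← mul_inv_cancel_left ((h : H ⧸ N) * γ).out (h * γ.out),
      Subgroup.coe_mul, rho_mul_apply, hr _ (hout h γ)]
  set s₁ : ResidueField B := ∑ γ : H ⧸ N, rho hst γ.out.1 (residue B (x₁ : B)) with hs₁
  have hs₁0 : s₁ ≠ 0 := hx₁
  have hs₁fix : ∀ h : H, rho hst h.1 s₁ = s₁ := fun h => by
    rw [hs₁, map_sum]
    exact Fintype.sum_equiv (Equiv.mulLeft (h : H ⧸ N)) _ _ (fun γ => hperm h _ hN_fix γ)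
  let θ : ResidueField B := residue B (x₁ : B) / s₁
  have hθN : ∀ n ∈ N, rho hst n.1 θ = θ := fun n hn => by rw [map_div₀, hN_fix n hn, hs₁fix]
  let a : H ⧸ N → ResidueField B := fun γ => rho hst γ.out.1 θ
  have ha_perm : ∀ (h : H) γ, rho hst h.1 (a γ) = a ((h : H ⧸ N) * γ) := fun h γ => hperm h θ hθN γ
  have ha_sum : ∑ γ, a γ = 1 := by
    simp only [a, θ, map_div₀, hs₁fix]
    rw [← Finset.sum_div, ← hs₁, div_self hs₁0]
  have hzmem : ∀ (h : H) (γ : H ⧸ N), ∃ m, ι m = φ h * φ γ.out * (φ ((h : H ⧸ N) * γ).out)⁻¹ := fun h γ => by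
    obtain ⟨m₀, hm₀⟩ := hNV _ (hout h γ)
    refine ⟨cj ((h : H ⧸ N) * γ).out m₀, ?_⟩
    rw [hcjι, hm₀, map_mul, map_inv, map_mul]
    group
  choose z hzι using hzmem
  have hz : ∀ (g h : H) γ, z (g * h) γ = cj g (z h γ) + z g ((h : H ⧸ N) * γ) := fun g h γ => hι (by
    rw [hadd, hcjι, hzι, hzι, hzι, QuotientGroup.mk_mul, mul_assoc (g : H ⧸ N), map_mul]
    group)
  let u : H → W := fun h => -∑ γ : H ⧸ N, a ((h : H ⧸ N) * γ) ⊗ₜ[ZMod p] z h γ
  have hu : ∀ g h : H, u (g * h) = u g + act g (u h) := fun g h => by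
    simp only [u, map_neg, map_sum, act_tmul, ha_perm, hz, TensorProduct.tmul_add, Finset.sum_add_distrib,
      neg_add, QuotientGroup.mk_mul, mul_assoc]
    rw [add_comm]
    congr 1
    all_goals first
      | (congr 1; exact Fintype.sum_equiv (Equiv.mulLeft (h : H ⧸ N)) _ _ (fun γ => rfl))
      | (rw [map_neg, map_sum]; congr 1; refine Finset.sum_congr rfl fun γ _ => ?_; rw [act_tmul, ha_perm])
  choose q hq using hrange
  have hu_P : ∀ (x : H) (hx : rho hst x.1 = 1), u x = (1 : ResidueField B) ⊗ₜ[ZMod p] (-q x hx) := fun x hx => by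
    have hx1 : (x : H ⧸ N) = 1 := (QuotientGroup.eq_one_iff x).2 (mem_T_of_rho hst hx E.1)
    have hzx : ∀ γ, z x γ = q x hx := fun γ => hι (by rw [hzι, hq, hx1, one_mul]; group)
    simp only [u, hzx, hx1, one_mul]
    rw [← TensorProduct.sum_tmul, ha_sum, TensorProduct.tmul_neg]
  have hu_N : ∀ n : H, n ∈ N → φ n = 1 → u n = 0 := fun n hn hφ => by
    have hn1 : (n : H ⧸ N) = 1 := (QuotientGroup.eq_one_iff n).2 hn
    have hzn : ∀ γ, z n γ = 0 := fun γ => hι (by rw [hzι, hι0, hn1, one_mul, hφ]; group)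
    simp [u, hzn]
  have hPfix : ∀ x : H, rho hst x.1 = 1 → ∀ t : W, act x t = t := fun x hx t => by
    induction t using TensorProduct.induction_on with
    | zero => exact map_zero _
    | tmul r m₀ => rw [act_tmul, hx, hcj1 x _ ⟨q x hx, hq x hx⟩]; rfl
    | add a b ha hb => rw [map_add, ha, hb]
  let w : H → W := fun h => Fr (u h) - u h
  have hw : ∀ g h : H, w (g * h) = w g + act g (w h) := fun g h => by
    simp only [w, hu, map_add, map_sub, Fr_act]
    abel
  have hwN : ∀ n ∈ N, w n = 0 := fun n hn => by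
    obtain ⟨x, hx, h1, h2⟩ := hNdecomp n hn
    have hn' : u n = u x := by
      conv_lhs => rw [← mul_inv_cancel_left x n]
      rw [hu, hu_N _ h2 h1, map_zero, add_zero]
    simp only [w, hn', hu_P x hx, Fr_tmul, one_pow, sub_self]
  set a₀ : W := -∑ γ : H ⧸ N, a γ • w γ.out with ha₀
  have hA : ∀ h : H, act h a₀ = a₀ + w h := fun h => by
    have key : ∀ γ : H ⧸ N, act h (a γ • w γ.out) =
        a ((h : H ⧸ N) * γ) • w ((h : H ⧸ N) * γ).out - a ((h : H ⧸ N) * γ) • w h := fun γ => by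
      have e : act h (w γ.out) = w ((h : H ⧸ N) * γ).out - w h := by
        refine eq_sub_of_add_eq ?_
        rw [add_comm, ← hw, ← mul_inv_cancel_left ((h : H ⧸ N) * γ).out (h * γ.out), hw, hwN _ (hout h γ), map_zero,
          add_zero]
      rw [act_smul, ha_perm, e, smul_sub]
    rw [ha₀, map_neg, map_sum, Finset.sum_congr rfl fun γ _ => key γ, Finset.sum_sub_distrib, neg_sub,
      ← Finset.sum_smul, Fintype.sum_equiv (Equiv.mulLeft (h : H ⧸ N)) (fun γ => a ((h : H ⧸ N) * γ)) a (fun γ => rfl),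
      ha_sum, one_smul, Fintype.sum_equiv (Equiv.mulLeft (h : H ⧸ N))
        (fun γ => a ((h : H ⧸ N) * γ) • w ((h : H ⧸ N) * γ).out) (fun γ => a γ • w γ.out) (fun γ => rfl)]
    abel
  obtain ⟨b, hb⟩ := Fr_surj a₀
  let v : H → W := fun h => u h - (act h b - b)
  have hv : ∀ g h : H, v (g * h) = v g + act g (v h) := fun g h => by
    simp only [v, hu, act_mul, map_sub]
    abel
  have hvfix : ∀ h, Fr (v h) = v h := fun h => by
    refine sub_eq_zero.1 ?_
    have : act h (Fr b) - Fr b - (act h b - b) = w h := by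
      have := hA h
      rw [← hb, map_sub] at this
      linear_combination (norm := abel) this
    simp only [v, map_sub, Fr_act]
    simp only [w] at this
    linear_combination (norm := abel) -this
  choose m hm using fun h => fixed (v h) (hvfix h)
  have hmmul : ∀ g h : H, m (g * h) = m g + cj g (m h) := fun g h => one_inj (by
    show (1 : ResidueField B) ⊗ₜ[ZMod p] m (g * h) = 1 ⊗ₜ (m g + cj g (m h))
    rw [hm, hv, TensorProduct.tmul_add, hm, ← hm h, act_tmul, map_one])
  have hm1 : m 1 = 0 := by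
    have := hmmul 1 1
    rw [one_mul, hcj1 1 _ ⟨0, by rw [hι0, map_one]⟩] at this
    exact left_eq_add.1 this
  let H₁ : Subgroup H :=
    { carrier := {h | m h = 0}
      one_mem' := hm1
      mul_mem' := fun {g h} hg hh => by
        show m (g * h) = 0
        rw [hmmul, show m g = 0 from hg, show m h = 0 from hh, map_zero, add_zero]
      inv_mem' := fun {g} hg => by
        show m g⁻¹ = 0
        have := hmmul g⁻¹ g
        rw [inv_mul_cancel, hm1, show m g = 0 from hg, map_zero, add_zero] at this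
        exact this.symm }
  -- the new subgroup is open in the old one
  have hb_fix : ∀ w : W, ∃ U : Subgroup (L ≃ₐ[K] L), IsOpen (U : Set (L ≃ₐ[K] L)) ∧
      ∀ h : H, (h : L ≃ₐ[K] L) ∈ U → act h w = w := fun w => by
    induction w using TensorProduct.induction_on with
    | zero => exact ⟨⊤, isOpen_univ, fun h _ => map_zero _⟩
    | tmul r m₀ =>
      obtain ⟨x, rfl⟩ := residue_surjective r
      haveI : FiniteDimensional K K⟮(x : L)⟯ := adjoin.finiteDimensional (Algebra.IsIntegral.isIntegral _)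
      refine ⟨U₀ ⊓ T hst K⟮(x : L)⟯, hU₀.inter (isOpen_T hst _), fun h hh => ?_⟩
      rw [act_tmul, hh.2 x (mem_adjoin_simple_self K _), hcj1 h _ ⟨0, by rw [hι0, hker h hh.1]⟩]
    | add a b ha hb =>
      obtain ⟨U, hU, hUa⟩ := ha
      obtain ⟨U', hU', hUb⟩ := hb
      exact ⟨U ⊓ U', hU.inter hU', fun h hh => by rw [map_add, hUa h hh.1, hUb h hh.2]⟩
  obtain ⟨U₁, hU₁, hU₁b⟩ := hb_fix b
  let U₂ : Subgroup (L ≃ₐ[K] L) := U₁ ⊓ U₀ ⊓ T hst E.1
  have hU₂ : IsOpen (U₂ : Set (L ≃ₐ[K] L)) := (hU₁.inter hU₀).inter (isOpen_T hst E.1)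
  have hU₂H : ∀ h : H, (h : L ≃ₐ[K] L) ∈ U₂ → h ∈ H₁ := fun h hh => by
    refine one_inj ?_
    show (1 : ResidueField B) ⊗ₜ[ZMod p] m h = 1 ⊗ₜ 0
    rw [hm, TensorProduct.tmul_zero]
    simp only [v]
    rw [hu_N h hh.2 (hker h hh.1.2), hU₁b h hh.1.1, sub_self, sub_zero]
  refine ⟨H₁.map H.subtype, ?_, Subgroup.map_subtype_le H₁, fun σ => ?_, ?_⟩
  · let J : Set (L ≃ₐ[K] L) := {σ | ∃ g ∈ H₁, (g.1)⁻¹ * σ ∈ U₂}
    have hJc : IsClosed J := by
      rw [← isOpen_compl_iff]
      have : Jᶜ = ⋃ σ ∈ Jᶜ, (fun τ => σ⁻¹ * τ) ⁻¹' (U₂ : Set (L ≃ₐ[K] L)) := by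
        refine Set.Subset.antisymm (fun σ hσ => Set.mem_biUnion hσ (by simp)) ?_
        intro τ hτ
        obtain ⟨σ, hσ, hστ⟩ := Set.mem_iUnion₂.1 hτ
        rintro ⟨g, hg, hgτ⟩
        refine hσ ⟨g, hg, ?_⟩
        have e : g.1⁻¹ * σ = g.1⁻¹ * τ * (σ⁻¹ * τ)⁻¹ := by group
        rw [e]
        exact mul_mem hgτ (inv_mem hστ)
      rw [this]
      exact isOpen_biUnion fun σ _ => hU₂.preimage (continuous_const.mul continuous_id)
    have heq : ((H₁.map H.subtype : Subgroup (L ≃ₐ[K] L)) : Set (L ≃ₐ[K] L)) = (H : Set _) ∩ J := by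
      ext σ
      constructor
      · rintro ⟨g, hg, rfl⟩
        exact ⟨g.2, g, hg, by show g.1⁻¹ * g.1 ∈ U₂; rw [inv_mul_cancel]; exact one_mem _⟩
      · rintro ⟨hσ, g, hg, hgU⟩
        refine ⟨g * (g⁻¹ * ⟨σ, hσ⟩), H₁.mul_mem hg (hU₂H _ hgU), ?_⟩
        show (g.1 : L ≃ₐ[K] L) * (g.1⁻¹ * σ) = σ
        group
    rw [heq]
    exact hH.inter hJc
  · obtain ⟨h, hh, hρ⟩ := hfull σ
    let g : H := ⟨h, hh⟩
    obtain ⟨x, hx, hxv⟩ := hsurj (cj g⁻¹ (m g))
    refine ⟨h * x.1, ⟨g * x, ?_, rfl⟩, by rw [map_mul, hx, mul_one, hρ]⟩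
    have hxb : act x b = b := hPfix x hx b
    have hmx : m x = -q x hx := one_inj (by
      show (1 : ResidueField B) ⊗ₜ[ZMod p] m x = _
      rw [hm]
      simp only [v]
      rw [hu_P x hx, hxb, sub_self, sub_zero])
    have he : q x hx = cj g⁻¹ (m g) := hι (by rw [hq, hxv])
    show m (g * x) = 0
    rw [hmmul, hmx, map_neg, he, ← hcj, mul_inv_cancel, hcj1 1 _ ⟨0, by rw [hι0, map_one]⟩, add_neg_cancel]
  · rintro x ⟨y, hy, hyx⟩ hx
    obtain rfl : y = x := Subtype.ext hyx
    have hxb : act y b = b := hPfix y hx b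
    have h0 := hm y
    rw [show m y = 0 from hy, TensorProduct.tmul_zero] at h0
    simp only [v] at h0
    rw [hu_P y hx, hxb, sub_self, sub_zero, eq_comm, ← TensorProduct.tmul_zero _ (1 : ResidueField B)] at h0
    rw [← hq y hx, neg_eq_zero.1 (one_inj h0), hι0]

/-- A closed subgroup with full residual image can be shrunk so that a given `p`-elementary quotient of its
inertia disappears. -/
theorem exists_smaller (p : ℕ) [Fact p.Prime] [CharP (ResidueField B) p]
    (H : Subgroup (L ≃ₐ[K] L)) (hH : IsClosed (H : Set (L ≃ₐ[K] L)))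
    (hfull : ∀ σ : L ≃ₐ[K] L, ∃ h ∈ H, rho hst h = rho hst σ)
    {Q : Type u} [Group Q] (φ : H →* Q) (U₀ : Subgroup (L ≃ₐ[K] L)) (hU₀ : IsOpen (U₀ : Set (L ≃ₐ[K] L)))
    (hker : ∀ h : H, (h : L ≃ₐ[K] L) ∈ U₀ → φ h = 1)
    (hcomm : ∀ x y : H, rho hst x.1 = 1 → rho hst y.1 = 1 → φ x * φ y = φ y * φ x)
    (hexp : ∀ x : H, rho hst x.1 = 1 → φ x ^ p = 1) :
    ∃ H' : Subgroup (L ≃ₐ[K] L), IsClosed (H' : Set (L ≃ₐ[K] L)) ∧ H' ≤ H ∧
      (∀ σ : L ≃ₐ[K] L, ∃ h ∈ H', rho hst h = rho hst σ) ∧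
      ∀ x : H, (x : L ≃ₐ[K] L) ∈ H' → rho hst x.1 = 1 → φ x = 1 := by
  let P : Subgroup H := ((rho hst).comp H.subtype).ker
  let V : Subgroup Q := P.map φ
  letI : CommGroup ↥V :=
    { V.toGroup with
      mul_comm := fun a b => by
        obtain ⟨_, x, hx, rfl⟩ := a
        obtain ⟨_, y, hy, rfl⟩ := b
        exact Subtype.ext (hcomm x y hx hy) }
  letI : Module (ZMod p) (Additive ↥V) := AddCommGroup.zmodModule (G := Additive ↥V) (n := p) fun m => by
    obtain ⟨x, hx, hv⟩ := (Additive.toMul m).2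
    exact Additive.toMul.injective (Subtype.ext (by
      show ((Additive.toMul m : ↥V) : Q) ^ p = 1
      rw [← hv]
      exact hexp x hx))
  exact exists_smaller_aux hst p H hH hfull φ U₀ hU₀ hker (fun m : Additive ↥V => ((Additive.toMul m : ↥V) : Q))
    (fun a b h => Additive.toMul.injective (Subtype.ext h)) (fun a b => rfl)
    (fun x hx => ⟨Additive.ofMul ⟨φ x, ⟨x, hx, rfl⟩⟩, rfl⟩) (fun m => (Additive.toMul m).2)

end GrothLib.InertiaSplitlead
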