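import Groth.Agent.Lib.InertiaSplitlead.Lift

/-!
# The inertia exact sequence of a henselian discretely valued field splits
-/

set_option autoImplicit false
set_option linter.style.haveILetI false

universe u

open IsLocalRing IntermediateField

noncomputable section

namespace GrothLib.InertiaSplitlead

theorem isPGroup_of_prime_order {G : Type*} [Group G] [Finite G] (p : ℕ) (V : Subgroup G)
    (h : ∀ v ∈ V, ∀ ℓ : ℕ, ℓ.Prime → orderOf v = ℓ → ℓ = p) : IsPGroup p V := fun v => by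
  have hpos : 0 < orderOf v := orderOf_pos v
  refine ⟨(orderOf v).primeFactorsList.length, ?_⟩
  rw [← orderOf_dvd_iff_pow_eq_one]
  have hall : ∀ ℓ ∈ (orderOf v).primeFactorsList, ℓ = p := fun ℓ hℓ => by
    obtain ⟨hℓp, hdvd⟩ := (Nat.mem_primeFactorsList hpos.ne').1 hℓ
    obtain ⟨m, hm⟩ := hdvd
    refine h ((v ^ m : V) : G) (v ^ m).2 ℓ hℓp ?_
    rw [Subgroup.orderOf_coe, orderOf_pow' v (by rintro rfl; simp [hm] at hpos), hm, Nat.gcd_mul_left_left,
      Nat.mul_div_assoc _ dvd_rfl, Nat.div_self (Nat.pos_of_ne_zero (by rintro rfl; simp [hm] at hpos)), mul_one]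
  conv_lhs => rw [← Nat.prod_primeFactorsList hpos.ne']
  rw [List.prod_eq_pow_card _ p hall]

/-- A nontrivial normal `p`-subgroup has a nontrivial elementary abelian quotient by a normal subgroup. -/
theorem exists_elementary_quotient {R : Type u} [Group R] [Finite R] (p : ℕ) [Fact p.Prime] (V : Subgroup R) [V.Normal]
    (hV : IsPGroup p V) (hne : V ≠ ⊥) :
    ∃ (W : Subgroup R) (_ : W.Normal), (∃ v ∈ V, v ∉ W) ∧ (∀ a ∈ V, ∀ b ∈ V, (a * b)⁻¹ * (b * a) ∈ W) ∧
      ∀ a ∈ V, a ^ p ∈ W := by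
  classical
  obtain ⟨W, ⟨hWn, hWV⟩, hmax⟩ := (Set.toFinite {W : Subgroup R | W.Normal ∧ W < V}).exists_maximal
    ⟨⊥, inferInstance, bot_lt_iff_ne_bot.2 hne⟩
  haveI := hWn
  let π := QuotientGroup.mk' W
  let V' : Subgroup (R ⧸ W) := V.map π
  haveI : V'.Normal := Subgroup.Normal.map inferInstance π (QuotientGroup.mk'_surjective W)
  have hmin : ∀ N : Subgroup (R ⧸ W), N.Normal → N ≤ V' → N ≠ ⊥ → N = V' := fun N hN hle hNne => by
    haveI := hN
    by_contra hNV
    have h1 : W ≤ N.comap π := fun w hw => by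
      show π w ∈ N
      rw [show π w = 1 from (QuotientGroup.eq_one_iff w).2 hw]
      exact N.one_mem
    have h2 : N.comap π ≤ V := fun r hr => by
      obtain ⟨v, hv, hvr⟩ := hle hr
      have h3 : v⁻¹ * r ∈ W := QuotientGroup.eq.1 hvr
      simpa using V.mul_mem hv (hWV.le h3)
    have h4 : N.comap π < V := lt_of_le_of_ne h2 fun e => hNV (by
      rw [← Subgroup.map_comap_eq_self_of_surjective (QuotientGroup.mk'_surjective W) N, e])
    have h5 : N.comap π ≤ W := hmax ⟨inferInstance, h4⟩ h1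
    refine hNne ((Subgroup.eq_bot_iff_forall _).2 fun x hx => ?_)
    obtain ⟨r, rfl⟩ := QuotientGroup.mk'_surjective W x
    exact (QuotientGroup.eq_one_iff r).2 (h5 hx)
  obtain ⟨v₀, hv₀, hv₀W⟩ := SetLike.exists_of_lt hWV
  have hV'ne : V' ≠ ⊥ := fun e => hv₀W ((QuotientGroup.eq_one_iff v₀).1
    ((Subgroup.eq_bot_iff_forall _).1 e _ ⟨v₀, hv₀, rfl⟩))
  have hV'p : IsPGroup p V' := hV.map π
  haveI : Nontrivial V' := (Subgroup.nontrivial_iff_ne_bot V').2 hV'ne
  haveI : Nontrivial (Subgroup.center V') := hV'p.center_nontrivial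
  have hcomm : ∀ a ∈ V', ∀ b ∈ V', a * b = b * a := by
    have hC : (Subgroup.center V').map V'.subtype = V' := hmin _ inferInstance (Subgroup.map_subtype_le _) fun e => by
      obtain ⟨c, hc⟩ := exists_ne (1 : Subgroup.center V')
      exact hc (Subtype.ext (Subtype.ext ((Subgroup.eq_bot_iff_forall _).1 e _ ⟨c.1, c.2, rfl⟩)))
    intro a ha b hb
    rw [← hC] at ha
    obtain ⟨c, hc, rfl⟩ := ha
    exact congrArg Subtype.val ((Subgroup.mem_center_iff.1 hc) ⟨b, hb⟩).symm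
  let N : Subgroup (R ⧸ W) :=
    { carrier := {x | x ∈ V' ∧ x ^ p = 1}
      one_mem' := ⟨V'.one_mem, one_pow p⟩
      mul_mem' := fun {a b} ha hb => ⟨V'.mul_mem ha.1 hb.1, by
        rw [Commute.mul_pow (hcomm a ha.1 b hb.1), ha.2, hb.2, one_mul]⟩
      inv_mem' := fun {a} ha => ⟨V'.inv_mem ha.1, by rw [inv_pow, ha.2, inv_one]⟩ }
  have hN : N = V' := by
    refine hmin N ⟨fun a ha g => ⟨Subgroup.Normal.conj_mem inferInstance a ha.1 g, ?_⟩⟩ (fun x hx => hx.1) fun e => ?_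
    · rw [conj_pow, ha.2, mul_one, mul_inv_cancel]
    · obtain ⟨n, hcard⟩ := IsPGroup.iff_card.1 hV'p
      have hn0 : n ≠ 0 := fun h0 => by
        have := Finite.one_lt_card (α := V')
        rw [hcard, h0, pow_zero] at this
        exact lt_irrefl _ this
      obtain ⟨g, hg⟩ := exists_prime_orderOf_dvd_card' (G := V') p (by rw [hcard]; exact dvd_pow_self p hn0)
      have hg1 : (g : R ⧸ W) = 1 := (Subgroup.eq_bot_iff_forall _).1 e _ ⟨g.2, by
        have := pow_orderOf_eq_one g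
        rw [hg] at this
        exact congrArg Subtype.val this⟩
      rw [show g = 1 from Subtype.ext hg1, orderOf_one] at hg
      exact (Fact.out : p.Prime).one_lt.ne hg
  refine ⟨W, hWn, ⟨v₀, hv₀, hv₀W⟩, fun a ha b hb => ?_, fun a ha => ?_⟩
  · exact QuotientGroup.eq.1 (show π (a * b) = π (b * a) by
      rw [map_mul, map_mul]; exact hcomm _ ⟨a, ha, rfl⟩ _ ⟨b, hb, rfl⟩)
  · refine (QuotientGroup.eq_one_iff _).1 ?_
    have : π a ∈ N := hN ▸ ⟨a, ha, rfl⟩
    exact (map_pow π a p).trans this.2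

variable {K L : Type u} [Field K] [Field L] [Algebra K L] [IsSepClosure K L]
  (A : ValuationSubring K) [IsDiscreteValuationRing A] [HenselianLocalRing A] {B : ValuationSubring L}
  (hB : ∀ x : K, algebraMap K L x ∈ B ↔ x ∈ A)
  (hst : ∀ (σ : L ≃ₐ[K] L) (x : L), x ∈ B → σ x ∈ B)

include A hB in
/-- A closed subgroup mapping bijectively onto the residual Galois group. -/
theorem exists_complement :
    ∃ H : Subgroup (L ≃ₐ[K] L), IsClosed (H : Set (L ≃ₐ[K] L)) ∧
      (∀ σ : L ≃ₐ[K] L, ∃ h ∈ H, rho hst h = rho hst σ) ∧ ∀ x ∈ H, rho hst x = 1 → x = 1 := by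
  classical
  haveI : IsGalois K L := IsSepClosure.isGalois
  obtain ⟨π, hπ⟩ := IsDiscreteValuationRing.exists_irreducible A
  obtain ⟨a, ha, hstep⟩ := exists_roots A (B := B) (π : K) (fun h => hπ.ne_zero (Subtype.ext h))
  let 𝓕 : Set (Set (L ≃ₐ[K] L)) := {s | ∃ H : Subgroup (L ≃ₐ[K] L), (H : Set (L ≃ₐ[K] L)) = s ∧ IsClosed s ∧
    H ≤ stabRoots a ∧ ∀ σ : L ≃ₐ[K] L, ∃ h ∈ H, rho hst h = rho hst σ}
  have h0 : ((stabRoots a : Subgroup (L ≃ₐ[K] L)) : Set (L ≃ₐ[K] L)) ∈ 𝓕 := by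
    refine ⟨stabRoots a, rfl, ?_, le_refl (stabRoots a), exists_stab_rho_eq A hB hst hπ ha hstep⟩
    exact InfiniteGalois.fixingSubgroup_isClosed (IntermediateField.adjoin K (Set.range a))
  obtain ⟨m, -, hm, hmin⟩ := zorn_superset_nonempty 𝓕 (fun c hc hchain hne => by
    refine ⟨⋂₀ c, ⟨⨅ s : c, (hc s.2).choose, ?_, ?_, ?_, ?_⟩, fun s hs => Set.sInter_subset_of_mem hs⟩
    · rw [Subgroup.coe_iInf, Set.sInter_eq_iInter]
      exact Set.iInter_congr fun s => (hc s.2).choose_spec.1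
    · exact isClosed_sInter fun s hs => (hc hs).choose_spec.2.1
    · obtain ⟨s, hs⟩ := hne
      exact (iInf_le _ ⟨s, hs⟩).trans (hc hs).choose_spec.2.2.1
    · intro σ
      have hcl : IsClosed {τ : L ≃ₐ[K] L | rho hst τ = rho hst σ} := by
        have : {τ : L ≃ₐ[K] L | rho hst τ = rho hst σ} = (fun τ => σ⁻¹ * τ) ⁻¹' {τ | rho hst τ = 1} := by
          ext τ
          simp only [Set.mem_preimage, Set.mem_ofPred_eq, map_mul, map_inv]
          rw [inv_mul_eq_one]
          exact eq_comm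
        rw [this]
        exact (isClosed_ker hst).preimage (continuous_const.mul continuous_id)
      haveI : Nonempty c := hne.to_subtype
      obtain ⟨h, hh⟩ := IsCompact.nonempty_iInter_of_directed_nonempty_isCompact_isClosed
        (fun s : c => (s : Set (L ≃ₐ[K] L)) ∩ {τ | rho hst τ = rho hst σ})
        (fun s s' => by
          rcases hchain.total s.2 s'.2 with h | h
          · exact ⟨s, subset_rfl, Set.inter_subset_inter_left _ h⟩
          · exact ⟨s', Set.inter_subset_inter_left _ h, subset_rfl⟩)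
        (fun s => by
          obtain ⟨h, hh, hρ⟩ := (hc s.2).choose_spec.2.2.2 σ
          exact ⟨h, by rw [← (hc s.2).choose_spec.1]; exact hh, hρ⟩)
        (fun s => ((hc s.2).choose_spec.2.1.inter hcl).isCompact)
        (fun s => (hc s.2).choose_spec.2.1.inter hcl)
      rw [Set.mem_iInter] at hh
      obtain ⟨s₀⟩ := (inferInstance : Nonempty c)
      refine ⟨h, Subgroup.mem_iInf.2 fun s => ?_, (hh s₀).2⟩
      have := (hh s).1
      rwa [← (hc s.2).choose_spec.1] at this) _ h0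
  obtain ⟨H, rfl, hHc, hHle, hfull⟩ := hm
  refine ⟨H, hHc, hfull, fun x hx hρ => ?_⟩
  by_contra hx1
  obtain ⟨y, hy⟩ : ∃ y : L, x y ≠ y := not_forall.1 fun h => hx1 (AlgEquiv.ext h)
  let E : FiniteGaloisIntermediateField K L := FiniteGaloisIntermediateField.adjoin K {y}
  have hyE : y ∈ E.1 := FiniteGaloisIntermediateField.subset_adjoin _ _ rfl
  let res : H →* (E.1 ≃ₐ[K] E.1) := (AlgEquiv.restrictNormalHom E.1).comp H.subtype
  have hres : ∀ (h : H) (z : E.1), ((res h z : E.1) : L) = h.1 (z : L) := fun h z =>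
    AlgEquiv.restrictNormal_commutes h.1 E.1 z
  let P : Subgroup H := ((rho hst).comp H.subtype).ker
  let φ₀ : H →* res.range := res.rangeRestrict
  let V : Subgroup res.range := P.map φ₀
  haveI : V.Normal := Subgroup.Normal.map inferInstance φ₀ res.rangeRestrict_surjective
  have hVne : V ≠ ⊥ := fun e => hy (by
    have h1 := (Subgroup.eq_bot_iff_forall _).1 e (φ₀ ⟨x, hx⟩) ⟨⟨x, hx⟩, hρ, rfl⟩
    have h2 := congrArg (fun f : res.range => ((f.1 ⟨y, hyE⟩ : E.1) : L)) h1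
    simp only [OneMemClass.coe_one, AlgEquiv.one_apply] at h2
    exact (hres ⟨x, hx⟩ ⟨y, hyE⟩).symm.trans h2)
  have hord : ∀ v ∈ V, ∀ ℓ : ℕ, ℓ.Prime → orderOf v = ℓ → (ℓ : ResidueField B) = 0 := by
    rintro v ⟨h, hh, rfl⟩ ℓ hℓ hvℓ
    by_contra hne
    have hfix : ∀ z ∈ E.1, h.1 z = z := by
      refine eq_self_of_pow_prime A hB hst hπ ha hstep E.1 h.1 hh (hHle h.2) hne fun z hz => ?_
      have hp := pow_orderOf_eq_one (φ₀ h)
      rw [hvℓ, ← map_pow] at hp
      have h2 := congrArg (fun f : res.range => ((f.1 ⟨z, hz⟩ : E.1) : L)) hp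
      simp only [OneMemClass.coe_one, AlgEquiv.one_apply] at h2
      exact (hres (h ^ ℓ) ⟨z, hz⟩).symm.trans h2
    have h1 : φ₀ h = 1 := Subtype.ext (AlgEquiv.ext fun z => Subtype.ext ((hres h z).trans (hfix z z.2)))
    rw [h1, orderOf_one] at hvℓ
    exact hℓ.one_lt.ne hvℓ
  obtain ⟨p, hp⟩ := CharP.exists (ResidueField B)
  have hexists : ∃ ℓ : ℕ, ℓ.Prime ∧ (ℓ : ResidueField B) = 0 := by
    obtain ⟨⟨v, hv⟩, hne1⟩ := (Subgroup.ne_bot_iff_exists_ne_one (H := V)).1 hVne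
    have hv1 : v ≠ 1 := fun e => hne1 (Subtype.ext e)
    obtain ⟨ℓ, hℓ, hdvd⟩ := Nat.exists_prime_and_dvd (fun h : orderOf v = 1 => hv1 (orderOf_eq_one_iff.1 h))
    obtain ⟨m, hm⟩ := hdvd
    have hm0 : m ≠ 0 := fun e => (orderOf_pos v).ne' (by rw [hm, e, mul_zero])
    refine ⟨ℓ, hℓ, hord (v ^ m) (V.pow_mem hv m) ℓ hℓ ?_⟩
    rw [orderOf_pow' v hm0, hm, Nat.gcd_mul_left_left, Nat.mul_div_assoc _ dvd_rfl,
      Nat.div_self (Nat.pos_of_ne_zero hm0), mul_one]
  obtain ⟨ℓ₀, hℓ₀, hℓ₀0⟩ := hexists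
  have hpℓ : p = ℓ₀ := ((hℓ₀.eq_one_or_self_of_dvd p ((CharP.cast_eq_zero_iff _ p ℓ₀).1 hℓ₀0)).resolve_left
    (CharP.char_ne_one (ResidueField B) p))
  subst hpℓ
  haveI : Fact p.Prime := ⟨hℓ₀⟩
  have hVp : IsPGroup p V := isPGroup_of_prime_order p V fun v hv ℓ hℓ hvℓ =>
    ((Nat.prime_dvd_prime_iff_eq hℓ₀ hℓ).1 ((CharP.cast_eq_zero_iff _ p ℓ).1 (hord v hv ℓ hℓ hvℓ))).symm
  obtain ⟨W, hWn, ⟨v₁, hv₁, hv₁W⟩, hWc, hWp⟩ := exists_elementary_quotient p V hVp hVne
  let φ : H →* res.range ⧸ W := (QuotientGroup.mk' W).comp φ₀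
  have hmemV : ∀ z : H, rho hst z.1 = 1 → φ₀ z ∈ V := fun z hz => ⟨z, hz, rfl⟩
  obtain ⟨H', hH'c, hH'le, hH'full, hH'P⟩ := exists_smaller hst p H hHc hfull φ E.1.fixingSubgroup
    (IntermediateField.fixingSubgroup_isOpen E.1)
    (fun h hh => by
      have : φ₀ h = 1 := Subtype.ext (AlgEquiv.ext fun z => Subtype.ext ((hres h z).trans
        ((IntermediateField.mem_fixingSubgroup_iff _ h.1).1 hh z z.2)))
      show (QuotientGroup.mk' W) (φ₀ h) = 1
      rw [this, map_one])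
    (fun a b ha hb => QuotientGroup.eq.2 (by
      have := hWc _ (hmemV a ha) _ (hmemV b hb)
      simpa using this))
    (fun a ha => by
      show (QuotientGroup.mk' W) (φ₀ a) ^ p = 1
      rw [← map_pow]
      exact (QuotientGroup.eq_one_iff _).2 (hWp _ (hmemV a ha)))
  obtain ⟨z, hz, hzv⟩ := hv₁
  have hzH' : (z : L ≃ₐ[K] L) ∈ H' :=
    (hmin (y := (H' : Set (L ≃ₐ[K] L))) ⟨H', rfl, hH'c, hH'le.trans hHle, hH'full⟩ hH'le) z.2
  refine hv₁W ((QuotientGroup.eq_one_iff v₁).1 ?_)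
  rw [← hzv]
  exact hH'P z hzH' hz

include A hB in
/-- The inertia subgroup has a closed complement in the decomposition group. -/
theorem exists_closed_complement :
    ∃ H : Subgroup (B.decompositionSubgroup K),
      IsClosed ((H.map (B.decompositionSubgroup K).subtype : Subgroup (L ≃ₐ[K] L)) : Set (L ≃ₐ[K] L)) ∧
      H ⊓ B.inertiaSubgroup K = ⊥ ∧ H ⊔ B.inertiaSubgroup K = ⊤ := by
  haveI : IsGalois K L := IsSepClosure.isGalois
  have hst' : ∀ (σ : L ≃ₐ[K] L) (x : L), x ∈ B → σ x ∈ B := stable A B hB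
  obtain ⟨H, hHc, hfull, hinj⟩ := exists_complement A hB hst'
  refine ⟨H.comap (B.decompositionSubgroup K).subtype, ?_, ?_, ?_⟩
  · have : (H.comap (B.decompositionSubgroup K).subtype).map (B.decompositionSubgroup K).subtype = H := by
      rw [Subgroup.map_comap_eq, Subgroup.range_subtype, inf_eq_right]
      exact fun σ _ => mem_decomposition hst' σ
    rwa [this]
  · refine (Subgroup.eq_bot_iff_forall _).2 fun g hg => Subtype.ext (hinj g.1 hg.1 ?_)
    exact hg.2
  · refine eq_top_iff.2 fun g _ => ?_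
    obtain ⟨h, hh, hρ⟩ := hfull g.1
    have h1 : (⟨h, mem_decomposition hst' h⟩ : B.decompositionSubgroup K)⁻¹ * g ∈ B.inertiaSubgroup K := by
      show rho hst' (h⁻¹ * g.1) = 1
      rw [map_mul, map_inv, hρ, inv_mul_cancel]
    rw [← mul_inv_cancel_left (⟨h, mem_decomposition hst' h⟩ : B.decompositionSubgroup K) g]
    exact Subgroup.mul_mem_sup (show (⟨h, mem_decomposition hst' h⟩ : B.decompositionSubgroup K) ∈ _ from hh) h1

end GrothLib.InertiaSplitlead
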