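import Groth.Agent.Lib.InertiaSplitlead.Unram

/-!
# The tame part: a system of roots of a uniformizer
-/

set_option autoImplicit false
set_option linter.style.haveILetI false

universe u

open IsLocalRing IntermediateField Polynomial

noncomputable section

namespace GrothLib.InertiaSplitlead

variable {K L : Type u} [Field K] [Field L] [Algebra K L] [IsSepClosure K L]
  (A : ValuationSubring K) [IsDiscreteValuationRing A] [HenselianLocalRing A] {B : ValuationSubring L}
  (hB : ∀ x : K, algebraMap K L x ∈ B ↔ x ∈ A)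

/-- The exponents prime to the residue characteristic. -/
def expo (B : ValuationSubring L) : ℕ → ℕ
  | 0 => 1
  | n + 1 => expo B n * (letI := Classical.dec ((((n + 1 : ℕ) : ResidueField B)) = 0)
      if (((n + 1 : ℕ) : ResidueField B)) = 0 then 1 else n + 1)

omit [IsDiscreteValuationRing A] [HenselianLocalRing A] in
theorem expo_ne_zero (n : ℕ) : ((expo B n : ℕ) : ResidueField B) ≠ 0 := by
  induction n with
  | zero => simp [expo]
  | succ n ih =>
    simp only [expo]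
    split
    · simpa using ih
    · rw [Nat.cast_mul]; exact mul_ne_zero ih ‹_›

omit [IsDiscreteValuationRing A] [HenselianLocalRing A] in
theorem dvd_expo (d : ℕ) (hd : (d : ResidueField B) ≠ 0) : d ∣ expo B d := by
  cases d with
  | zero => simp at hd
  | succ n => simp only [expo, hd, if_false]; exact dvd_mul_left _ _

omit [IsSepClosure K L] in
theorem natCast_ne_zero {n : ℕ} (hn : (n : ResidueField B) ≠ 0) : (n : L) ≠ 0 := fun h =>
  hn (by rw [← map_natCast (residue B), show (n : B) = 0 from Subtype.ext (by simpa using h), map_zero])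

include A in
theorem exists_roots (π : K) (hπ : π ≠ 0) :
    ∃ a : ℕ → L, (∀ n, a n ^ expo B n = algebraMap K L π) ∧
      ∀ n, ∃ m : ℕ, a (n + 1) ^ m = a n := by
  haveI : IsSepClosed L := IsSepClosure.sep_closed K
  let f : ℕ → ℕ := fun n => letI := Classical.dec ((((n + 1 : ℕ) : ResidueField B)) = 0)
    if (((n + 1 : ℕ) : ResidueField B)) = 0 then 1 else n + 1
  have hroot : ∀ (n : ℕ) (x : L), ∃ y : L, y ^ f n = x := fun n x => by
    haveI : NeZero ((f n : ℕ) : L) := ⟨natCast_ne_zero (B := B) (by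
      simp only [f]; split
      · simp
      · assumption)⟩
    exact IsSepClosed.exists_pow_nat_eq x (f n)
  choose r hr using hroot
  let a : ℕ → L := fun n => Nat.rec (algebraMap K L π) (fun n an => r n an) n
  refine ⟨a, fun n => ?_, fun n => ⟨f n, hr n (a n)⟩⟩
  induction n with
  | zero => exact pow_one _
  | succ n ih =>
    show r n (a n) ^ (expo B n * f n) = _
    rw [mul_comm, pow_mul, hr, ih]

variable (hst : ∀ (σ : L ≃ₐ[K] L) (x : L), x ∈ B → σ x ∈ B)
  {π : A} (hπ : Irreducible π) {a : ℕ → L} (ha : ∀ n, a n ^ expo B n = algebraMap K L (π : K))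
  (hstep : ∀ n, ∃ m : ℕ, a (n + 1) ^ m = a n)

/-- The stabilizer of the roots. -/
def stabRoots (a : ℕ → L) : Subgroup (L ≃ₐ[K] L) := (IntermediateField.adjoin K (Set.range a)).fixingSubgroup

omit [IsSepClosure K L] in
theorem mem_stabRoots {a : ℕ → L} {σ : L ≃ₐ[K] L} : σ ∈ stabRoots a ↔ ∀ n, σ (a n) = a n := by
  refine ⟨fun h n => (IntermediateField.mem_fixingSubgroup_iff _ σ).1 h _ (subset_adjoin K _ ⟨n, rfl⟩), fun h => ?_⟩
  have hle : IntermediateField.adjoin K (Set.range a) ≤ fixedField (Subgroup.zpowers σ) := by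
    rw [IntermediateField.adjoin_le_iff]
    rintro _ ⟨n, rfl⟩ ⟨τ, k, rfl⟩
    have hmem : σ ∈ MulAction.stabilizer (L ≃ₐ[K] L) (a n) := h n
    exact zpow_mem hmem k
  exact (IntermediateField.le_iff_le _ _).1 hle (Subgroup.mem_zpowers σ)

omit [IsSepClosure K L] in
include hB hπ in
/-- Units of `B` in the ground field. -/
theorem exists_zpow_mul_unit {c : K} (hc : c ≠ 0) :
    ∃ (i : ℤ) (w : B), IsUnit w ∧ algebraMap K L c = algebraMap K L (π : K) ^ i * w := by
  obtain ⟨r, s, hs, rfl⟩ := IsFractionRing.div_surjective (A := A) c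
  have hs0 : s ≠ 0 := nonZeroDivisors.ne_zero hs
  have hr0 : r ≠ 0 := fun h => hc (by rw [h, map_zero, zero_div])
  obtain ⟨i, v, rfl⟩ := IsDiscreteValuationRing.eq_unit_mul_pow_irreducible hr0 hπ
  obtain ⟨j, w, rfl⟩ := IsDiscreteValuationRing.eq_unit_mul_pow_irreducible hs0 hπ
  let ψ : A →+* B := (algebraMap K L).restrict A B fun z hz => (hB z).2 hz
  refine ⟨(i : ℤ) - j, ψ (v * w⁻¹ : Aˣ), (v * w⁻¹).isUnit.map ψ, ?_⟩
  have hπ0 : algebraMap K L (π : K) ≠ 0 := (_root_.map_ne_zero _).2 fun h => hπ.ne_zero (Subtype.ext h)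
  have hw : algebraMap K L ((w : A) : K) * algebraMap K L (((w⁻¹ : Aˣ) : A) : K) = 1 := by
    rw [← map_mul, show ((w : A) : K) * (((w⁻¹ : Aˣ) : A) : K) = ((((w * w⁻¹ : Aˣ)) : A) : K) from rfl,
      mul_inv_cancel, Units.val_one]
    exact map_one _
  show algebraMap K L ((((v : A) * π ^ i : A) : K) / (((w : A) * π ^ j : A) : K)) =
    _ * algebraMap K L ((((v * w⁻¹ : Aˣ)) : A) : K)
  rw [show ((((v : A) * π ^ i : A)) : K) = ((v : A) : K) * (π : K) ^ i from rfl,
    show ((((w : A) * π ^ j : A)) : K) = ((w : A) : K) * (π : K) ^ j from rfl,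
    show ((((v * w⁻¹ : Aˣ)) : A) : K) = ((v : A) : K) * (((w⁻¹ : Aˣ) : A) : K) from rfl,
    map_div₀, map_mul, map_mul, map_mul, map_pow, map_pow, zpow_sub₀ hπ0, zpow_natCast, zpow_natCast,
    eq_inv_of_mul_eq_one_right hw]
  have : algebraMap K L ((w : A) : K) ≠ 0 := left_ne_zero_of_mul_eq_one hw
  field_simp

omit [IsSepClosure K L] [HenselianLocalRing A] in
include hB hπ in
theorem eq_zero_of_zpow_eq_unit {i : ℤ} {w : B} (hw : IsUnit w) (h : algebraMap K L (π : K) ^ i = (w : L)) :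
    i = 0 := by
  by_contra hi
  have hπ0 : algebraMap K L (π : K) ≠ 0 := (_root_.map_ne_zero _).2 fun h => hπ.ne_zero (Subtype.ext h)
  obtain ⟨v, rfl⟩ := hw
  have hinv : (algebraMap K L (π : K) ^ i)⁻¹ = (((v⁻¹ : Bˣ) : B) : L) := by
    rw [h]
    refine inv_eq_of_mul_eq_one_right ?_
    exact congrArg Subtype.val v.mul_inv
  have key : ∀ n : ℕ, n ≠ 0 → algebraMap K L (((π : K) ^ n)⁻¹) ∈ B → False := fun n hn hmem => by
    have hu : IsUnit (π ^ n) := ⟨⟨π ^ n, ⟨_, (hB _).1 hmem⟩,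
      Subtype.ext (mul_inv_cancel₀ (pow_ne_zero n fun h => hπ.ne_zero (Subtype.ext h))),
      Subtype.ext (inv_mul_cancel₀ (pow_ne_zero n fun h => hπ.ne_zero (Subtype.ext h)))⟩, rfl⟩
    exact hπ.not_isUnit ((isUnit_pow_iff hn).1 hu)
  rcases Int.natAbs_eq i with e | e <;> rw [e] at h hinv
  · refine key i.natAbs (by omega) ?_
    rw [map_inv₀, map_pow, ← zpow_natCast, hinv]
    exact ((v⁻¹ : Bˣ) : B).2
  · refine key i.natAbs (by omega) ?_
    rw [map_inv₀, map_pow, ← zpow_natCast, ← zpow_neg, h]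
    exact (v : B).2

include hB hst hπ ha in
/-- Inertia is transitive on the roots of a fixed exponent. -/
theorem exists_inertia_apply_eq (n : ℕ) (σ : L ≃ₐ[K] L) :
    ∃ τ : L ≃ₐ[K] L, rho hst τ = 1 ∧ τ (a n) = σ (a n) := by
  classical
  haveI : IsGalois K L := IsSepClosure.isGalois
  have hπK : (π : K) ≠ 0 := fun h => hπ.ne_zero (Subtype.ext h)
  have hπ0 : algebraMap K L (π : K) ≠ 0 := (_root_.map_ne_zero _).2 hπK
  set M := expo B n with hM
  have hM0 : M ≠ 0 := fun h => expo_ne_zero (B := B) n (by rw [← hM, h, Nat.cast_zero])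
  let R : Finset L := (Polynomial.nthRoots M (algebraMap K L (π : K))).toFinset
  have hR : ∀ τ : L ≃ₐ[K] L, τ (a n) ∈ R := fun τ => by
    rw [Multiset.mem_toFinset, Polynomial.mem_nthRoots (Nat.pos_of_ne_zero hM0), ← map_pow, ha, AlgEquiv.commutes]
  let O : Finset L := R.filter fun x => ∃ τ : L ≃ₐ[K] L, rho hst τ = 1 ∧ τ (a n) = x
  have haO : a n ∈ O := Finset.mem_filter.2 ⟨hR 1, 1, map_one _, rfl⟩
  have hy : ∀ τ : L ≃ₐ[K] L, rho hst τ = 1 → τ (∏ x ∈ O, x) = ∏ x ∈ O, x := fun τ hτ => by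
    rw [map_prod]
    have hτO : ∀ τ' : L ≃ₐ[K] L, rho hst τ' = 1 → ∀ x ∈ O, τ' x ∈ O := fun τ' hτ' x hx => by
      obtain ⟨-, s, hs, rfl⟩ := Finset.mem_filter.1 hx
      exact Finset.mem_filter.2 ⟨by rw [← AlgEquiv.mul_apply]; exact hR _, τ' * s, by rw [map_mul, hτ', hs, one_mul], rfl⟩
    refine Finset.prod_bij (fun x _ => τ x) (hτO τ hτ) (fun x _ z _ h => τ.injective h) (fun z hz => ?_) (fun x _ => rfl)
    refine ⟨τ⁻¹ z, hτO τ⁻¹ (by rw [map_inv, hτ, inv_one]) z hz, ?_⟩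
    rw [← AlgEquiv.mul_apply, mul_inv_cancel, AlgEquiv.one_apply]
  have hy0 : (∏ x ∈ O, x) ≠ 0 := Finset.prod_ne_zero_iff.2 fun x hx => by
    have h := (Polynomial.mem_nthRoots (Nat.pos_of_ne_zero hM0)).1 (Multiset.mem_toFinset.1 (Finset.mem_filter.1 hx).1)
    exact fun h0 => hπ0 (by rw [← h, h0, zero_pow hM0])
  obtain ⟨c, w, hc, hw, e⟩ := exists_mul_unit hst A hB _ hy0 hy
  obtain ⟨i, w', hw', e'⟩ := exists_zpow_mul_unit A hB hπ hc
  have hpow : (∏ x ∈ O, x) ^ M = algebraMap K L (π : K) ^ O.card := by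
    rw [← Finset.prod_pow]
    exact Finset.prod_eq_pow_card fun x hx =>
      (Polynomial.mem_nthRoots (Nat.pos_of_ne_zero hM0)).1 (Multiset.mem_toFinset.1 (Finset.mem_filter.1 hx).1)
  have hcard : (O.card : ℤ) - i * M = 0 := by
    refine eq_zero_of_zpow_eq_unit A hB hπ ((hw'.mul hw).pow M) ?_
    rw [zpow_sub₀ hπ0, zpow_natCast, ← hpow, e, e', zpow_mul, zpow_natCast]
    push_cast
    field_simp
    ring
  have hle : R.card ≤ M := (Multiset.toFinset_card_le _).trans (Polynomial.card_nthRoots M _)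
  have hOR : O.card ≤ R.card := Finset.card_filter_le _ _
  have hOeq : O = R := by
    refine Finset.eq_of_subset_of_card_le (Finset.filter_subset _ _) ?_
    have hpos : 0 < O.card := Finset.card_pos.2 ⟨_, haO⟩
    have hi : 0 < i := by
      by_contra h
      push Not at h
      have : i * M ≤ 0 := mul_nonpos_of_nonpos_of_nonneg h (by positivity)
      omega
    have : (M : ℤ) ≤ i * M := le_mul_of_one_le_left (by positivity) hi
    omega
  obtain ⟨-, τ, hτ, hτa⟩ := Finset.mem_filter.1 (hOeq ▸ hR σ : σ (a n) ∈ O)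
  exact ⟨τ, hτ, hτa⟩

omit [IsSepClosure K L] [HenselianLocalRing A] [IsDiscreteValuationRing A] in
include hstep in
theorem apply_eq_of_le {σ : L ≃ₐ[K] L} {m n : ℕ} (hmn : m ≤ n) (h : σ (a n) = a n) : σ (a m) = a m := by
  induction hmn with
  | refl => exact h
  | @step n _ ih =>
    obtain ⟨k, hk⟩ := hstep n
    exact ih (by rw [← hk, map_pow, h])

include hB hst hπ ha hstep in
/-- The stabilizer of the roots still surjects onto the residual group. -/
theorem exists_stab_rho_eq (σ : L ≃ₐ[K] L) : ∃ h ∈ stabRoots a, rho hst h = rho hst σ := by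
  haveI : IsGalois K L := IsSepClosure.isGalois
  let V : ℕ → Set (L ≃ₐ[K] L) := fun n => {τ | rho hst τ = rho hst σ} ∩ ((K⟮a n⟯).fixingSubgroup : Set _)
  have hfix : ∀ (n : ℕ) (τ : L ≃ₐ[K] L), τ ∈ (K⟮a n⟯).fixingSubgroup ↔ τ (a n) = a n := fun n τ => by
    refine ⟨fun h => (IntermediateField.mem_fixingSubgroup_iff _ τ).1 h _ (mem_adjoin_simple_self K _), fun h => ?_⟩
    have hle : K⟮a n⟯ ≤ fixedField (Subgroup.zpowers τ) := by
      rw [adjoin_simple_le_iff]
      rintro ⟨g, k, rfl⟩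
      have hmem : τ ∈ MulAction.stabilizer (L ≃ₐ[K] L) (a n) := h
      exact zpow_mem hmem k
    exact (IntermediateField.le_iff_le _ _).1 hle (Subgroup.mem_zpowers τ)
  have hcl : IsClosed {τ : L ≃ₐ[K] L | rho hst τ = rho hst σ} := by
    have : {τ : L ≃ₐ[K] L | rho hst τ = rho hst σ} = (fun τ => σ⁻¹ * τ) ⁻¹' {τ | rho hst τ = 1} := by
      ext τ
      simp only [Set.mem_preimage, Set.mem_ofPred_eq, map_mul, map_inv]
      rw [inv_mul_eq_one]
      exact eq_comm
    rw [this]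
    exact (isClosed_ker hst).preimage (continuous_const.mul continuous_id)
  have hVcl : ∀ n, IsClosed (V n) := fun n => hcl.inter (InfiniteGalois.fixingSubgroup_isClosed _)
  have hne : ∀ n, (V n).Nonempty := fun n => by
    obtain ⟨τ, hτ, hτa⟩ := exists_inertia_apply_eq A hB hst hπ ha n σ⁻¹
    -- `τ⁻¹ σ⁻¹` fixes the root
    refine ⟨(τ⁻¹ * σ⁻¹)⁻¹, ?_, (hfix n _).2 ?_⟩
    · show rho hst _ = _
      rw [map_inv, map_mul, map_inv, map_inv, hτ, inv_one, one_mul, inv_inv]
    · have h1 : (τ⁻¹ * σ⁻¹) (a n) = a n := by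
        rw [AlgEquiv.mul_apply, ← hτa, ← AlgEquiv.mul_apply, inv_mul_cancel, AlgEquiv.one_apply]
      conv_lhs => rw [← h1]
      rw [← AlgEquiv.mul_apply, inv_mul_cancel, AlgEquiv.one_apply]
  obtain ⟨h, hh⟩ := IsCompact.nonempty_iInter_of_sequence_nonempty_isCompact_isClosed V
    (fun n τ hτ => ⟨hτ.1, (hfix n τ).2 (apply_eq_of_le hstep (Nat.le_succ n) ((hfix (n + 1) τ).1 hτ.2))⟩)
    hne (hVcl 0).isCompact hVcl
  rw [Set.mem_iInter] at hh
  exact ⟨h, mem_stabRoots.2 fun n => (hfix n h).1 (hh n).2, (hh 0).1⟩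

omit [IsSepClosure K L] [HenselianLocalRing A] [IsDiscreteValuationRing A] in
include hst in
/-- A Galois translate has the same valuation. -/
theorem exists_unit_apply (E : IntermediateField K L) [FiniteDimensional K E] [Normal K E] (g : L ≃ₐ[K] L) {x : L}
    (hx : x ∈ E) (hx0 : x ≠ 0) : ∃ w : B, IsUnit w ∧ g x = x * w := by
  haveI : Algebra.IsAlgebraic K E := inferInstance
  obtain ⟨N, hN, hgN⟩ : ∃ N : ℕ, N ≠ 0 ∧ (g ^ N) x = x := by
    refine ⟨orderOf (g.restrictNormal E), (orderOf_pos _).ne', ?_⟩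
    have h := AlgEquiv.restrictNormal_commutes (g ^ orderOf (g.restrictNormal E)) E ⟨x, hx⟩
    rw [show (g ^ orderOf (g.restrictNormal E)).restrictNormal E = 1 from
      (map_pow (AlgEquiv.restrictNormalHom E) g _).trans (pow_orderOf_eq_one _)] at h
    exact h.symm
  have key : ∀ (g : L ≃ₐ[K] L), (g ^ N) x = x → g x * x⁻¹ ∈ B → x * (g x)⁻¹ ∈ B := by
    intro g hgN hr
    have hk : ∀ k : ℕ, (g ^ (k + 1)) x * (g x)⁻¹ ∈ B := by
      intro k
      induction k with
      | zero => rw [pow_one, mul_inv_cancel₀ ((_root_.map_ne_zero _).2 hx0)]; exact B.one_mem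
      | succ k ih =>
        have h1 : (g ^ (k + 1)) (g x * x⁻¹) ∈ B := hst _ _ hr
        have e : (g ^ (k + 1 + 1)) x * (g x)⁻¹ = (g ^ (k + 1)) (g x * x⁻¹) * ((g ^ (k + 1)) x * (g x)⁻¹) := by
          rw [map_mul, map_inv₀, ← AlgEquiv.mul_apply, ← pow_succ]
          have : (g ^ (k + 1)) x ≠ 0 := (_root_.map_ne_zero _).2 hx0
          field_simp
        rw [e]
        exact B.mul_mem _ _ h1 ih
    have := hk (N - 1)
    rwa [Nat.sub_add_cancel (Nat.pos_of_ne_zero hN), hgN] at this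
  have hgx0 : g x ≠ 0 := (_root_.map_ne_zero _).2 hx0
  rcases B.mem_or_inv_mem (g x * x⁻¹) with h | h
  · refine ⟨⟨_, h⟩, ⟨⟨⟨_, h⟩, ⟨_, key g hgN h⟩, Subtype.ext ?_, Subtype.ext ?_⟩, rfl⟩, by field_simp⟩
    all_goals
      show _ * _ = (1 : L)
      field_simp
  · rw [mul_inv, inv_inv, mul_comm] at h
    have h' : g x * x⁻¹ ∈ B := by
      have hg' : ((g⁻¹) ^ N) (g x) = g x := by
        have h2 : ((g⁻¹) ^ N) x = x := by
          conv_lhs => rw [← hgN]
          rw [← AlgEquiv.mul_apply, inv_pow, inv_mul_cancel, AlgEquiv.one_apply]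
        rw [← AlgEquiv.mul_apply, show (g⁻¹) ^ N * g = g * (g⁻¹) ^ N from
          ((Commute.refl g).inv_right.pow_right N).eq.symm, AlgEquiv.mul_apply, h2]
      have h3 := hst g⁻¹ _ h
      rw [map_mul, map_inv₀, ← AlgEquiv.mul_apply, inv_mul_cancel, AlgEquiv.one_apply] at h3
      -- the same argument for the inverse, applied at `g x`
      have hk : ∀ k : ℕ, (g⁻¹ ^ k) x * x⁻¹ ∈ B := by
        intro k
        induction k with
        | zero => rw [pow_zero, AlgEquiv.one_apply, mul_inv_cancel₀ hx0]; exact B.one_mem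
        | succ k ih =>
          have h1 : (g⁻¹ ^ k) ((g⁻¹) x * x⁻¹) ∈ B := hst _ _ h3
          have e : (g⁻¹ ^ (k + 1)) x * x⁻¹ = (g⁻¹ ^ k) ((g⁻¹) x * x⁻¹) * ((g⁻¹ ^ k) x * x⁻¹) := by
            rw [map_mul, map_inv₀, ← AlgEquiv.mul_apply, ← pow_succ]
            have : (g⁻¹ ^ k) x ≠ 0 := (_root_.map_ne_zero _).2 hx0
            field_simp
          rw [e]
          exact B.mul_mem _ _ h1 ih
      have h4 := hk (N - 1)
      have h5 : (g⁻¹ ^ (N - 1)) x = g x := by
        have : (g⁻¹) ^ (N - 1) = g * g⁻¹ ^ N := by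
          rw [inv_pow, inv_pow, eq_comm, mul_inv_eq_iff_eq_mul, ← pow_sub_mul_pow g (Nat.pos_of_ne_zero hN : 1 ≤ N),
            pow_one, inv_mul_cancel_left]
        rw [this, AlgEquiv.mul_apply]
        congr 1
        conv_lhs => rw [← hgN]
        rw [← AlgEquiv.mul_apply, inv_pow, inv_mul_cancel, AlgEquiv.one_apply]
      rwa [h5] at h4
    refine ⟨⟨_, h'⟩, ⟨⟨⟨_, h'⟩, ⟨_, h⟩, Subtype.ext ?_, Subtype.ext ?_⟩, rfl⟩, by field_simp⟩
    all_goals
      show _ * _ = (1 : L)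
      field_simp

include hB hst hπ ha hstep in
/-- Inertia elements fixing the roots act by elements of `p`-power order on finite levels. -/
theorem eq_self_of_pow_prime (E : IntermediateField K L) [FiniteDimensional K E] [Normal K E]
    (τ : L ≃ₐ[K] L) (hτ : rho hst τ = 1) (hfix : τ ∈ stabRoots a) {ℓ : ℕ} (hℓ : (ℓ : ResidueField B) ≠ 0)
    (hord : ∀ x ∈ E, (τ ^ ℓ) x = x) (x : L) (hx : x ∈ E) : τ x = x := by
  classical
  haveI : IsGalois K L := IsSepClosure.isGalois
  have hπK : (π : K) ≠ 0 := fun h => hπ.ne_zero (Subtype.ext h)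
  have hπ0 : algebraMap K L (π : K) ≠ 0 := (_root_.map_ne_zero _).2 hπK
  -- the character is trivial
  have hone : ∀ (z : L), z ∈ E → z ≠ 0 → ∀ w : B, τ z = z * w → residue B w = 1 := by
    intro z hz hz0 w hw
    haveI : Algebra.IsSeparable K E := Algebra.isSeparable_tower_bot_of_isSeparable K E L
    haveI : IsGalois K E := IsGalois.mk
    let Gs := Finset.univ (α := E ≃ₐ[K] E)
    have hd : 0 < Gs.card := Finset.card_pos.2 ⟨1, Finset.mem_univ _⟩
    have hU : ∀ s : E ≃ₐ[K] E, ∃ u : B, IsUnit u ∧ (s ⟨z, hz⟩ : L) = z * u := fun s => by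
      obtain ⟨u, hu, e⟩ := exists_unit_apply hst E (s.liftNormal L) hz hz0
      exact ⟨u, hu, (AlgEquiv.liftNormal_commutes s L ⟨z, hz⟩).symm.trans e⟩
    choose u hu hue using hU
    have hnorm : ∃ c : K, algebraMap K L c = z ^ Gs.card * ((∏ s, u s : B) : L) := by
      refine ⟨Algebra.norm K (⟨z, hz⟩ : E), ?_⟩
      rw [IsScalarTower.algebraMap_apply K E L, Algebra.norm_eq_prod_automorphisms, map_prod]
      rw [Finset.prod_congr rfl fun s _ => (show algebraMap E L (s ⟨z, hz⟩) = z * (u s : L) from hue s),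
        Finset.prod_mul_distrib, Finset.prod_const]
      push_cast
      rfl
    obtain ⟨c, hc⟩ := hnorm
    set U : B := ∏ s, u s with hUdef
    have hUu : IsUnit U := (IsUnit.prod_iff).2 fun s _ => hu s
    have hc0 : c ≠ 0 := fun h => by
      rw [h, map_zero, eq_comm, mul_eq_zero] at hc
      rcases hc with hc | hc
      · exact hz0 (pow_eq_zero_iff hd.ne' |>.1 hc)
      · exact hUu.ne_zero (Subtype.ext hc)
    obtain ⟨i, w', hw', ei⟩ := exists_zpow_mul_unit A hB hπ hc0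
    obtain ⟨q, hq⟩ := ExpChar.exists (ResidueField B)
    -- separate the `q`-part of the exponent
    obtain ⟨r, d, hdne, hrd⟩ : ∃ r d : ℕ, (d : ResidueField B) ≠ 0 ∧ Gs.card = q ^ r * d := by
      rcases hq with _ | ⟨hp⟩
      · exact ⟨0, Gs.card, Nat.cast_ne_zero.2 hd.ne', by rw [pow_zero, one_mul]⟩
      · refine ⟨Gs.card.factorization q, Gs.card / q ^ Gs.card.factorization q, ?_, (Nat.ordProj_mul_ordCompl_eq_self _ q).symm⟩
        rw [Ne, CharP.cast_eq_zero_iff (ResidueField B) q]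
        exact Nat.not_dvd_ordCompl hp hd.ne'
    obtain ⟨k, hk⟩ := dvd_expo (B := B) d hdne
    have had : (a d ^ k) ^ d = algebraMap K L (π : K) := by rw [← pow_mul, mul_comm k d, ← hk, ha]
    have hb0 : a d ^ k ≠ 0 := fun h => hπ0 (by
      rw [← had, h, zero_pow fun h0 => hdne (by rw [h0, Nat.cast_zero])])
    set v : L := z ^ (q ^ r) / (a d ^ k) ^ i with hv
    have hvd : v ^ d * (U : L) = (w' : L) := by
      rw [hv, div_pow, ← pow_mul, ← hrd, ← zpow_natCast ((a d ^ k) ^ i) d, ← zpow_mul, mul_comm i, zpow_mul,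
        zpow_natCast, had, div_mul_eq_mul_div, ← hc, ei]
      field_simp
    obtain ⟨Ui, hUi⟩ := hUu
    have hvint : v ^ d = (w' : L) * (((Ui⁻¹ : Bˣ) : B) : L) := by
      rw [← hvd, mul_assoc, ← hUi]
      rw [show ((Ui : B) : L) * (((Ui⁻¹ : Bˣ) : B) : L) = 1 from congrArg Subtype.val Ui.mul_inv, mul_one]
    have hvB : v ∈ B := by
      rcases B.mem_or_inv_mem v with h | h
      · exact h
      · have h1 : IsUnit ((⟨v⁻¹, h⟩ : B) ^ d) := by
          obtain ⟨W, hW⟩ := hw'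
          refine ⟨W⁻¹ * Ui, Subtype.ext ?_⟩
          show (((W⁻¹ : Bˣ) : B) : L) * ((Ui : B) : L) = v⁻¹ ^ d
          rw [inv_pow, hvint, ← hW, mul_inv, eq_inv_of_mul_eq_one_right (congrArg Subtype.val W.mul_inv :
            ((W : B) : L) * (((W⁻¹ : Bˣ) : B) : L) = 1), eq_inv_of_mul_eq_one_right (congrArg Subtype.val Ui.mul_inv :
            ((Ui : B) : L) * (((Ui⁻¹ : Bˣ) : B) : L) = 1), inv_inv]
        have h2 : IsUnit (⟨v⁻¹, h⟩ : B) := (isUnit_pow_iff fun (h0 : d = 0) => hdne (by rw [h0, Nat.cast_zero])).1 h1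
        obtain ⟨V, hV⟩ := h2
        have h3 : v⁻¹ * (((V⁻¹ : Bˣ) : B) : L) = 1 := by
          have := congrArg Subtype.val V.mul_inv
          rwa [hV] at this
        rw [← inv_inv v, ← eq_inv_of_mul_eq_one_right h3]
        exact ((V⁻¹ : Bˣ) : B).2
    have hvu : IsUnit (⟨v, hvB⟩ : B) := by
      refine (isUnit_pow_iff fun (h0 : d = 0) => hdne (by rw [h0, Nat.cast_zero])).1 ?_
      rw [show (⟨v, hvB⟩ : B) ^ d = w' * ((Ui⁻¹ : Bˣ) : B) from Subtype.ext hvint]
      exact hw'.mul (Units.isUnit _)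
    have hτv : residue B ⟨τ v, hst τ v hvB⟩ = residue B ⟨v, hvB⟩ := by
      rw [← rho_residue hst τ ⟨v, hvB⟩, hτ]; rfl
    have hzq : (⟨τ v, hst τ v hvB⟩ : B) = ⟨v, hvB⟩ * w ^ (q ^ r) := Subtype.ext (by
      show τ v = v * (w : L) ^ (q ^ r)
      rw [hv, map_div₀, map_pow, map_zpow₀, map_pow, mem_stabRoots.1 hfix d, hw, mul_pow, mul_div_right_comm])
    rw [hzq, map_mul, map_pow] at hτv
    have h1 : residue B w ^ (q ^ r) = 1 :=
      mul_left_cancel₀ ((residue_ne_zero_iff_isUnit _).2 hvu) (hτv.trans (mul_one _).symm)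
    have := (ExpChar.pow_prime_pow_mul_eq_one_iff q r 1 (residue B w)).1 (by rwa [mul_one])
    rwa [pow_one] at this
  -- the averaged difference
  by_contra hne
  have hℓL : (ℓ : L) ≠ 0 := natCast_ne_zero hℓ
  let x₀ : L := (∑ i ∈ Finset.range ℓ, (τ ^ i) x) / ℓ
  have hpowE : ∀ (i : ℕ) (z : L), z ∈ E → (τ ^ i) z ∈ E := fun i z hz => apply_mem E _ hz
  have hx₀E : x₀ ∈ E := div_mem (sum_mem fun i _ => hpowE i x hx) (_root_.natCast_mem E ℓ)
  have hτx₀ : τ x₀ = x₀ := by
    simp only [x₀, map_div₀, map_sum, map_natCast]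
    congr 1
    rw [Finset.sum_congr rfl fun i _ => (show τ ((τ ^ i) x) = (τ ^ (i + 1)) x by rw [pow_succ', AlgEquiv.mul_apply])]
    have h1 := Finset.sum_range_succ' (fun i => (τ ^ i) x) ℓ
    have h2 := Finset.sum_range_succ (fun i => (τ ^ i) x) ℓ
    rw [h2, hord x hx, pow_zero, AlgEquiv.one_apply] at h1
    exact add_right_cancel h1.symm
  set y := x - x₀ with hy
  have hyE : y ∈ E := sub_mem hx hx₀E
  have hy0 : y ≠ 0 := fun h => hne (by rw [sub_eq_zero.1 h, hτx₀])
  have hτix₀ : ∀ i : ℕ, (τ ^ i) x₀ = x₀ := fun i => by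
    induction i with
    | zero => rfl
    | succ i ih => rw [pow_succ', AlgEquiv.mul_apply, ih, hτx₀]
  have hsum : ∑ i ∈ Finset.range ℓ, (τ ^ i) y = 0 := by
    simp only [hy, map_sub, Finset.sum_sub_distrib, hτix₀, Finset.sum_const, Finset.card_range, nsmul_eq_mul]
    simp only [x₀]
    rw [mul_div_cancel₀ _ hℓL, sub_self]
  obtain ⟨w, hw, hwe⟩ := exists_unit_apply hst E τ hyE hy0
  have hw1 := hone y hyE hy0 w hwe
  have hpw : ∀ i : ℕ, ∃ W : B, residue B W = 1 ∧ (τ ^ i) y = y * W := fun i => by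
    induction i with
    | zero => exact ⟨1, map_one _, by simp⟩
    | succ i ih =>
      obtain ⟨W, hW, e⟩ := ih
      refine ⟨w * ⟨τ W, hst τ W W.2⟩, ?_, ?_⟩
      · rw [map_mul, hw1, one_mul, ← rho_residue hst τ W, hW, map_one]
      · rw [pow_succ', AlgEquiv.mul_apply, e, map_mul, hwe]
        push_cast
        ring
  choose W hW hWe using hpw
  rw [Finset.sum_congr rfl fun i _ => hWe i, ← Finset.mul_sum, mul_eq_zero] at hsum
  have h0 : (∑ i ∈ Finset.range ℓ, W i) = 0 := Subtype.ext (by push_cast; exact hsum.resolve_left hy0)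
  have h1 := congrArg (residue B) h0
  rw [map_sum, map_zero, Finset.sum_congr rfl fun i _ => hW i, Finset.sum_const, Finset.card_range,
    nsmul_one] at h1
  exact hℓ h1

end GrothLib.InertiaSplitlead
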