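import Groth.Agent.Lib.InertiaSplitlead.Basic

/-!
# Residual Galois groups and the inertia field
-/

set_option autoImplicit false
set_option linter.style.haveILetI false

universe u

open IsLocalRing IntermediateField
open scoped Pointwise

noncomputable section

namespace GrothLib.InertiaSplitlead

variable {K L : Type u} [Field K] [Field L] [Algebra K L] {B : ValuationSubring L}
  (hst : ∀ (σ : L ≃ₐ[K] L) (x : L), x ∈ B → σ x ∈ B)

include hst in
theorem mem_decomposition (σ : L ≃ₐ[K] L) : σ ∈ B.decompositionSubgroup K := by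
  rw [MulAction.mem_stabilizer_iff]
  ext x
  rw [ValuationSubring.mem_pointwise_smul_iff_inv_smul_mem]
  refine ⟨fun h => ?_, fun h => hst σ⁻¹ x h⟩
  have := hst σ _ h
  rwa [AlgEquiv.smul_def, ← AlgEquiv.mul_apply, mul_inv_cancel, AlgEquiv.one_apply] at this

/-- The action on the residue field. -/
def rho : (L ≃ₐ[K] L) →* RingAut (ResidueField B) :=
  (MulSemiringAction.toRingAut (B.decompositionSubgroup K) (ResidueField B)).comp
    ((MonoidHom.id _).codRestrict _ (mem_decomposition hst))

theorem rho_residue (σ : L ≃ₐ[K] L) (x : B) :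
    rho hst σ (residue B x) = residue B ⟨σ x, hst σ x x.2⟩ := rfl

theorem rho_mul_apply (σ τ : L ≃ₐ[K] L) (a : ResidueField B) :
    rho hst (σ * τ) a = rho hst σ (rho hst τ a) := by rw [map_mul]; rfl

theorem rho_one_apply (a : ResidueField B) : rho hst (1 : L ≃ₐ[K] L) a = a := by rw [map_one]; rfl

/-- The elements acting trivially on the residues of an intermediate field. -/
def T (E : IntermediateField K L) : Subgroup (L ≃ₐ[K] L) where
  carrier := {σ | ∀ x : B, (x : L) ∈ E → rho hst σ (residue B x) = residue B x}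
  one_mem' x _ := rho_one_apply hst _
  mul_mem' {σ τ} hσ hτ x hx := by rw [rho_mul_apply, hτ x hx, hσ x hx]
  inv_mem' {σ} hσ x hx := by
    conv_lhs => rw [← hσ x hx]
    rw [← rho_mul_apply, inv_mul_cancel, rho_one_apply]

theorem mem_T_of_rho {σ : L ≃ₐ[K] L} (h : rho hst σ = 1) (E : IntermediateField K L) : σ ∈ T hst E :=
  fun x _ => by rw [h]; rfl

theorem T_antitone {E E' : IntermediateField K L} (h : E ≤ E') : T hst E' ≤ T hst E :=
  fun _ hσ x hx => hσ x (h hx)

theorem fixingSubgroup_le_T (E : IntermediateField K L) : E.fixingSubgroup ≤ T hst E := fun σ hσ x hx => by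
  rw [rho_residue]
  exact congrArg (residue B) (Subtype.ext ((E.mem_fixingSubgroup_iff σ).1 hσ x hx))

theorem isOpen_T (E : IntermediateField K L) [FiniteDimensional K E] :
    IsOpen (T hst E : Set (L ≃ₐ[K] L)) :=
  Subgroup.isOpen_mono (fixingSubgroup_le_T hst E) (IntermediateField.fixingSubgroup_isOpen E)

theorem apply_mem (E : IntermediateField K L) [Normal K E] (σ : L ≃ₐ[K] L) {x : L} (hx : x ∈ E) : σ x ∈ E := by
  have := AlgEquiv.restrictNormal_commutes σ E ⟨x, hx⟩
  exact (show σ x = (σ.restrictNormal E ⟨x, hx⟩ : L) from this.symm) ▸ (σ.restrictNormal E ⟨x, hx⟩).2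

theorem conj_mem_T (E : IntermediateField K L) [Normal K E] (g : L ≃ₐ[K] L) {σ : L ≃ₐ[K] L}
    (hσ : σ ∈ T hst E) : g * σ * g⁻¹ ∈ T hst E := fun x hx => by
  rw [rho_mul_apply, rho_mul_apply, rho_residue hst g⁻¹, hσ _ (apply_mem E g⁻¹ hx), ← rho_residue hst g⁻¹,
    ← rho_mul_apply, mul_inv_cancel, rho_one_apply]

variable [IsGalois K L]

theorem isClosed_T (E : IntermediateField K L) [FiniteDimensional K E] :
    IsClosed (T hst E : Set (L ≃ₐ[K] L)) :=
  Subgroup.isClosed_of_isOpen _ (isOpen_T hst E)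

theorem rho_eq_one_of_mem_T {σ : L ≃ₐ[K] L}
    (h : ∀ E : FiniteGaloisIntermediateField K L, σ ∈ T hst E.1) : rho hst σ = 1 :=
  RingEquiv.ext fun a => by
    obtain ⟨x, rfl⟩ := residue_surjective a
    exact h (FiniteGaloisIntermediateField.adjoin K {(x : L)}) x
      (FiniteGaloisIntermediateField.subset_adjoin _ _ rfl)

theorem isClosed_ker : IsClosed {σ : L ≃ₐ[K] L | rho hst σ = 1} := by
  have : {σ : L ≃ₐ[K] L | rho hst σ = 1} =
      ⋂ E : FiniteGaloisIntermediateField K L, (T hst E.1 : Set (L ≃ₐ[K] L)) := by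
    ext σ
    simp only [Set.mem_iInter]
    exact ⟨fun h E => mem_T_of_rho hst h E.1, fun h => rho_eq_one_of_mem_T hst h⟩
  rw [this]
  exact isClosed_iInter fun E => isClosed_T hst E.1

/-- Openness around the kernel is detected on a finite level. -/
theorem exists_T_subset {C U : Set (L ≃ₐ[K] L)} (hC : IsClosed C) (hU : IsOpen U)
    (h : ∀ σ ∈ C, rho hst σ = 1 → σ ∈ U) :
    ∃ E : FiniteGaloisIntermediateField K L, ∀ σ ∈ C, σ ∈ T hst E.1 → σ ∈ U := by
  haveI : Nonempty (FiniteGaloisIntermediateField K L) := ⟨FiniteGaloisIntermediateField.adjoin K ∅⟩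
  obtain ⟨E, hE⟩ := (hC.isCompact.diff hU).elim_directed_family_closed
    (fun E : FiniteGaloisIntermediateField K L => (T hst E.1 : Set (L ≃ₐ[K] L)))
    (fun E => isClosed_T hst E.1)
    (Set.eq_empty_iff_forall_notMem.2 fun σ ⟨hσ, hσ'⟩ =>
      hσ.2 (h σ hσ.1 (rho_eq_one_of_mem_T hst fun E => Set.mem_iInter.1 hσ' E)))
    (fun E E' => ⟨E ⊔ E', T_antitone hst (le_sup_left (a := E) (b := E')),
      T_antitone hst (le_sup_right (a := E) (b := E'))⟩)
  exact ⟨E, fun σ hσ hσT => by_contra fun hσU => (Set.eq_empty_iff_forall_notMem.1 hE) σ ⟨⟨hσ, hσU⟩, hσT⟩⟩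

omit [IsGalois K L] in
/-- Residues of fixed integral elements detect the residual Galois group. -/
theorem rho_eq_of_fixedField (E : IntermediateField K L) [Normal K E] [Algebra.IsAlgebraic K L]
    (g g' : L ≃ₐ[K] L)
    (h : ∀ x : B, (x : L) ∈ fixedField (T hst E) → rho hst g (residue B x) = rho hst g' (residue B x))
    (x : B) (hx : (x : L) ∈ E) : rho hst g (residue B x) = rho hst g' (residue B x) := by
  classical
  let O : Set B := {t | ∃ τ ∈ T hst E, τ (x : L) = t}
  have hfin : O.Finite := by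
    have := ((minpoly K (x : L)).rootSet_finite L).preimage (f := fun t : B => (t : L)) Subtype.val_injective.injOn
    refine this.subset fun t ⟨τ, _, ht⟩ => ?_
    rw [Set.mem_preimage, Polynomial.mem_rootSet, ← ht]
    exact ⟨minpoly.ne_zero (Algebra.IsIntegral.isIntegral _), by
      show Polynomial.aeval (τ (x : L)) (minpoly K (x : L)) = 0
      rw [← AlgEquiv.coe_algHom, Polynomial.aeval_algHom_apply, minpoly.aeval, map_zero]⟩
  let Q : Polynomial B := ∏ t ∈ hfin.toFinset, (Polynomial.X - Polynomial.C t)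
  let act : (L ≃ₐ[K] L) → B →+* B := fun σ => σ.toAlgHom.toRingHom.restrict B B (hst σ)
  have hQ : ∀ σ ∈ T hst E, Q.map (act σ) = Q := by
    intro σ hσ
    simp only [Q, Polynomial.map_prod, Polynomial.map_sub, Polynomial.map_X, Polynomial.map_C]
    refine Finset.prod_bij (fun t _ => act σ t) ?_ ?_ ?_ (fun t _ => rfl)
    · intro t ht
      obtain ⟨τ, hτ, ht⟩ := hfin.mem_toFinset.1 ht
      refine hfin.mem_toFinset.2 ⟨σ * τ, mul_mem hσ hτ, ?_⟩
      show σ (τ (x : L)) = σ (t : L)
      rw [ht]
    · intro a _ b _ hab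
      exact Subtype.ext (σ.injective (congrArg Subtype.val hab))
    · intro t ht
      obtain ⟨τ, hτ, htτ⟩ := hfin.mem_toFinset.1 ht
      refine ⟨⟨σ⁻¹ (t : L), hst σ⁻¹ _ t.2⟩, hfin.mem_toFinset.2 ⟨σ⁻¹ * τ, mul_mem (inv_mem hσ) hτ, ?_⟩, ?_⟩
      · show σ⁻¹ (τ (x : L)) = σ⁻¹ (t : L)
        rw [htτ]
      · refine Subtype.ext ?_
        show σ (σ⁻¹ (t : L)) = t
        rw [← AlgEquiv.mul_apply, mul_inv_cancel, AlgEquiv.one_apply]
  have hcoef : ∀ i, ((Q.coeff i : B) : L) ∈ fixedField (T hst E) := fun i σ => by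
    have := congrArg (fun P : Polynomial B => ((P.coeff i : B) : L)) (hQ σ.1 σ.2)
    simp only [Polynomial.coeff_map] at this
    exact this
  have hQres : Q.map (residue B) = (Polynomial.X - Polynomial.C (residue B x)) ^ hfin.toFinset.card := by
    simp only [Q, Polynomial.map_prod, Polynomial.map_sub, Polynomial.map_X, Polynomial.map_C]
    refine Finset.prod_eq_pow_card fun t ht => ?_
    obtain ⟨τ, hτ, htτ⟩ := hfin.mem_toFinset.1 ht
    rw [← hτ x hx, rho_residue]
    exact congrArg (fun z => Polynomial.X - Polynomial.C (residue B z)) (Subtype.ext htτ.symm)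
  have hne : hfin.toFinset.card ≠ 0 :=
    (Finset.card_pos.2 ⟨x, hfin.mem_toFinset.2 ⟨1, one_mem _, rfl⟩⟩).ne'
  have e : ((Q.map (residue B)).map (rho hst g).toRingHom) = (Q.map (residue B)).map (rho hst g').toRingHom := by
    refine Polynomial.ext fun i => ?_
    simp only [Polynomial.coeff_map]
    exact h _ (hcoef i)
  rw [hQres] at e
  simp only [Polynomial.map_pow, Polynomial.map_sub, Polynomial.map_X, Polynomial.map_C] at e
  have := congrArg (Polynomial.eval (rho hst g (residue B x))) e
  simp only [Polynomial.eval_pow, Polynomial.eval_sub, Polynomial.eval_X, Polynomial.eval_C,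
    RingEquiv.toRingHom_eq_coe, RingHom.coe_coe, sub_self, zero_pow hne] at this
  exact sub_eq_zero.1 ((pow_eq_zero_iff hne).1 this.symm)

theorem exists_mul_unit_aux (A : ValuationSubring K) (hB : ∀ x : K, algebraMap K L x ∈ B ↔ x ∈ A)
    {ι : Type*} [Fintype ι] (z : ι → B)
    (hz : ∀ a : ι → A, ∑ i, residue B ⟨algebraMap K L (a i), (hB _).2 (a i).2⟩ * residue B (z i) = 0 →
      ∀ i, residue B ⟨algebraMap K L (a i), (hB _).2 (a i).2⟩ = 0)
    (c : ι → K) (hc : ∃ i, c i ≠ 0) :
    ∃ (c₀ : K) (w : B), c₀ ≠ 0 ∧ IsUnit w ∧ ∑ i, c i • (z i : L) = algebraMap K L c₀ * w := by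
  classical
  obtain ⟨i₀, hi₀⟩ := hc
  obtain ⟨j, -, hj⟩ := Finset.exists_max_image Finset.univ (fun i => A.valuation (c i)) ⟨i₀, Finset.mem_univ _⟩
  have hj0 : c j ≠ 0 := fun h => hi₀ ((A.valuation.zero_iff).1 (le_antisymm
    (by simpa [h] using hj i₀ (Finset.mem_univ _)) zero_le))
  let a : ι → A := fun i => ⟨c i / c j, (A.valuation_le_one_iff _).1 (by
    rw [map_div₀, div_le_one₀ (zero_lt_iff.2 ((Valuation.ne_zero_iff _).2 hj0))]
    exact hj i (Finset.mem_univ _))⟩
  let a' : ι → B := fun i => ⟨algebraMap K L (a i), (hB _).2 (a i).2⟩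
  refine ⟨c j, ∑ i, a' i * z i, hj0, ?_, ?_⟩
  · rw [← residue_ne_zero_iff_isUnit]
    intro hw
    rw [map_sum] at hw
    simp only [map_mul] at hw
    have h1 := hz a hw j
    have : (⟨algebraMap K L (a j), (hB _).2 (a j).2⟩ : B) = 1 :=
      Subtype.ext (by simp [a, div_self hj0])
    rw [this, map_one] at h1
    exact one_ne_zero h1
  · push_cast
    rw [Finset.mul_sum]
    refine Finset.sum_congr rfl fun i _ => ?_
    simp only [a', a]
    rw [Algebra.smul_def, ← mul_assoc, ← map_mul, mul_div_cancel₀ _ hj0]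

/-- An element fixed by inertia has the valuation of an element of the ground field. -/
theorem exists_mul_unit (A : ValuationSubring K) (hB : ∀ x : K, algebraMap K L x ∈ B ↔ x ∈ A)
    (y : L) (hy0 : y ≠ 0) (hy : ∀ σ : L ≃ₐ[K] L, rho hst σ = 1 → σ y = y) :
    ∃ (c : K) (w : B), c ≠ 0 ∧ IsUnit w ∧ y = algebraMap K L c * w := by
  classical
  haveI : FiniteDimensional K K⟮y⟯ := adjoin.finiteDimensional (Algebra.IsIntegral.isIntegral y)
  obtain ⟨E, hE⟩ := exists_T_subset hst isClosed_univ (IntermediateField.fixingSubgroup_isOpen K⟮y⟯)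
    (fun σ _ hσ => by
      show σ ∈ K⟮y⟯.fixingSubgroup
      have hle : K⟮y⟯ ≤ fixedField (Subgroup.zpowers σ) := by
        rw [adjoin_simple_le_iff]
        rintro ⟨τ, n, rfl⟩
        have : ∀ m : ℤ, (σ ^ m) y = y := fun m => hy _ (by rw [map_zpow, hσ, one_zpow])
        exact this n
      exact (IntermediateField.le_iff_le _ _).1 hle (Subgroup.mem_zpowers σ))
  let H : Subgroup (L ≃ₐ[K] L) := T hst E.1
  haveI : Finite ((L ≃ₐ[K] L) ⧸ H) := Subgroup.quotient_finite_of_isOpen H (isOpen_T hst E.1)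
  let F : IntermediateField K L := fixedField H
  have hyF : y ∈ F := fun σ => by
    have := hE σ.1 (Set.mem_univ _) σ.2
    exact (K⟮y⟯.mem_fixingSubgroup_iff _).1 this y (mem_adjoin_simple_self K y)
  have hFE : F ≤ E.1 := (IntermediateField.fixedField_antitone (fixingSubgroup_le_T hst E.1)).trans
    (InfiniteGalois.fixedField_fixingSubgroup E.1).le
  haveI : FiniteDimensional K F := FiniteDimensional.of_injective
    (IntermediateField.inclusion hFE).toLinearMap (IntermediateField.inclusion hFE).injective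
  -- at most as many embeddings as residual classes
  have hdim : Module.finrank K F ≤ Nat.card ((L ≃ₐ[K] L) ⧸ H) := by
    haveI : Algebra.IsSeparable K F := Algebra.isSeparable_tower_bot_of_isSeparable K F L
    rw [← AlgHom.natCard_of_splits K F L (fun x => by
      rw [← minpoly.algebraMap_eq (algebraMap F L).injective x]
      exact Normal.splits inferInstance (algebraMap F L x))]
    refine Nat.card_le_card_of_surjective (fun q => q.out.toAlgHom.comp F.val) fun φ => ?_
    let ψ : L →ₐ[K] L := φ.liftNormal L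
    let g : L ≃ₐ[K] L := (Algebra.IsAlgebraic.algEquivEquivAlgHom K L).symm ψ
    refine ⟨(g : (L ≃ₐ[K] L) ⧸ H), AlgHom.ext fun x => ?_⟩
    obtain ⟨h, hh⟩ := QuotientGroup.mk_out_eq_mul H g
    show (QuotientGroup.mk g : (L ≃ₐ[K] L) ⧸ H).out (x : L) = φ x
    rw [hh, AlgEquiv.mul_apply, show (h : L ≃ₐ[K] L) (x : L) = x from x.2 h]
    exact φ.liftNormal_commutes L x
  -- residual characters
  let M : Submonoid B :=
    { carrier := {x | (x : L) ∈ F}, one_mem' := F.one_mem, mul_mem' := fun ha hb => F.mul_mem ha hb }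
  let χ : ((L ≃ₐ[K] L) ⧸ H) → (M →* ResidueField B) := fun q =>
    ((rho hst q.out).toRingHom.comp (residue B)).toMonoidHom.comp M.subtype
  have hχ : Function.Injective χ := by
    intro q q' h
    rw [← q.out_eq, ← q'.out_eq]
    refine QuotientGroup.eq.2 fun x hx => ?_
    have := rho_eq_of_fixedField hst E.1 q.out q'.out
      (fun z hz => congrArg (fun f : M →* ResidueField B => f ⟨z, hz⟩) h) x hx
    rw [rho_mul_apply, ← this, ← rho_mul_apply, inv_mul_cancel, rho_one_apply]
  haveI : Fintype ((L ≃ₐ[K] L) ⧸ H) := Fintype.ofFinite _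
  let w : M → ((L ≃ₐ[K] L) ⧸ H → ResidueField B) := fun m q => χ q m
  have hli : LinearIndependent (ResidueField B) (fun q => (χ q : M → ResidueField B)) :=
    (linearIndependent_monoidHom M (ResidueField B)).comp χ hχ
  have hspan : Submodule.span (ResidueField B) (Set.range w) = ⊤ := by
    by_contra hne
    obtain ⟨f, hf, hbot⟩ := Submodule.exists_dual_map_eq_bot_of_lt_top (lt_top_iff_ne_top.2 hne) inferInstance
    have hz : ∀ m, f (w m) = 0 := fun m => by
      have : f (w m) ∈ Submodule.map f (Submodule.span (ResidueField B) (Set.range w)) :=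
        Submodule.mem_map_of_mem (Submodule.subset_span ⟨m, rfl⟩)
      rwa [hbot, Submodule.mem_bot] at this
    have hco := Fintype.linearIndependent_iff.1 hli (fun q => f (Pi.single q 1)) (funext fun m => by
      rw [Pi.zero_apply, ← hz m, LinearMap.pi_apply_eq_sum_univ f (w m), Finset.sum_apply]
      refine Finset.sum_congr rfl fun q _ => ?_
      simp only [Pi.smul_apply, smul_eq_mul, w]
      rw [mul_comm]
      congr 2
      funext r
      simp [Pi.single_apply, eq_comm])
    refine hf (LinearMap.pi_ext' fun q => LinearMap.ext_ring ?_)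
    simpa using hco q
  obtain ⟨b, hbs, hbspan, hbli⟩ := exists_linearIndependent (ResidueField B) (Set.range w)
  rw [hspan] at hbspan
  let bas := Module.Basis.mk hbli (by rw [Subtype.range_coe_subtype, Set.setOf_mem_eq]; exact hbspan.ge)
  haveI : Fintype b := FiniteDimensional.fintypeBasisIndex bas
  choose m hm using fun v : b => hbs v.2
  let z : b → B := fun v => (m v).1
  have hres : ∀ a : b → A, ∑ v, residue B ⟨algebraMap K L (a v), (hB _).2 (a v).2⟩ * residue B (z v) = 0 →
      ∀ v, residue B ⟨algebraMap K L (a v), (hB _).2 (a v).2⟩ = 0 := fun a ha => by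
    refine Fintype.linearIndependent_iff.1 hbli _ (funext fun q => ?_)
    simp only [Finset.sum_apply, Pi.smul_apply, smul_eq_mul, Pi.zero_apply]
    have h0 := congrArg (rho hst q.out) ha
    rw [map_zero, map_sum] at h0
    refine Eq.trans (Finset.sum_congr rfl fun v _ => ?_) h0
    rw [map_mul, ← congrFun (hm v) q]
    congr 1
    rw [rho_residue]
    exact congrArg (residue B) (Subtype.ext (AlgEquiv.commutes _ _).symm)
  -- a basis of the fixed field
  let zF : b → F := fun v => ⟨(z v : L), (m v).2⟩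
  have hzli : LinearIndependent K zF := Fintype.linearIndependent_iff.2 fun c hc => by
    by_contra hne
    push Not at hne
    obtain ⟨c₀, w₀, hc₀, hw₀, e⟩ := exists_mul_unit_aux A hB z hres c hne
    have h0 : (∑ v, c v • (z v : L)) = 0 := by
      have := congrArg (F.val) hc
      simpa [zF, map_sum, map_smul] using this
    rw [h0, eq_comm, mul_eq_zero] at e
    rcases e with e | e
    · exact hc₀ ((algebraMap K L).injective (e.trans (map_zero _).symm))
    · exact hw₀.ne_zero (Subtype.ext e)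
  have hcard : Fintype.card b = Nat.card ((L ≃ₐ[K] L) ⧸ H) := by
    rw [← Module.finrank_eq_card_basis bas, Module.finrank_fintype_fun_eq_card, Nat.card_eq_fintype_card]
  have htop : Submodule.span K (Set.range zF) = ⊤ :=
    hzli.span_eq_top_of_card_eq_finrank' (le_antisymm hzli.fintype_card_le_finrank (hdim.trans hcard.ge))
  have hyz : (⟨y, hyF⟩ : F) ∈ Submodule.span K (Set.range zF) := htop ▸ Submodule.mem_top
  obtain ⟨c, hc⟩ := (Submodule.mem_span_range_iff_exists_fun K).1 hyz
  have hc' : ∑ v, c v • (z v : L) = y := by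
    have := congrArg (F.val) hc
    simpa [zF, map_sum, map_smul] using this
  have hne : ∃ v, c v ≠ 0 := by
    by_contra h
    push Not at h
    exact hy0 (by rw [← hc']; simp [h])
  obtain ⟨c₀, w₀, hc₀, hw₀, e⟩ := exists_mul_unit_aux A hB z hres c hne
  exact ⟨c₀, w₀, hc₀, hw₀, by rw [← e, hc']⟩

end GrothLib.InertiaSplitlead
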